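import Groth.Agent.GrpField.Translate
import Groth.Agent.Grpd.FlatComp
import Mathlib.AlgebraicGeometry.Morphisms.Flat
import Mathlib.AlgebraicGeometry.Morphisms.QuasiCompact
import Mathlib.AlgebraicGeometry.Morphisms.UniversallyOpen
import Mathlib.AlgebraicGeometry.Stalk
import Mathlib.AlgebraicGeometry.Properties

/-!
# Flatness and dominance of homomorphisms of group schemes over a point
-/

universe u

open CategoryTheory CategoryTheory.Limits MonoidalCategory CartesianMonoidalCategory MonObj AlgebraicGeometry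

namespace Groth.Agent.GrpField

theorem flat_fromSpecStalk {X : Scheme.{u}} (x : X) : Flat (X.fromSpecStalk x) := by
  obtain ⟨U, hU, hxU, -⟩ := exists_isAffineOpen_mem_and_subset (X := X) (x := x) (U := ⊤) trivial
  rw [← IsAffineOpen.fromSpecStalk_eq_fromSpecStalk hU hxU, IsAffineOpen.fromSpecStalk]
  have : Flat (Spec.map (X.presheaf.germ U x hxU)) := by
    rw [Flat.SpecMap_iff, RingHom.Flat]
    let := TopCat.Presheaf.algebra_section_stalk X.presheaf (⟨x, hxU⟩ : U)
    have := hU.isLocalization_stalk ⟨x, hxU⟩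
    exact IsLocalization.flat (X.presheaf.stalk x) (hU.primeIdealOf ⟨x, hxU⟩).asIdeal.primeCompl
  infer_instance

variable {S : Scheme.{u}} {G H : Over S} [GrpObj G] [GrpObj H] (f : G ⟶ H) [IsMonHom f]

/-- A homomorphism from a flat group scheme over a point which is flat at one point is flat. -/
theorem flat_of_flat_stalkMap [PointBase S] [Subsingleton S] [Flat G.hom] {x : G.left}
    (h : (f.left.stalkMap x).hom.Flat) : Flat f.left := by
  let V : Over S := Over.mk (G.left.fromSpecStalk x ≫ G.hom)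
  let j : V ⟶ G := Over.homMk (G.left.fromSpecStalk x)
  have hj : Flat j.left := flat_fromSpecStalk x
  have : Flat (j ≫ f).left := by
    rw [Over.comp_left]
    change Flat (G.left.fromSpecStalk x ≫ f.left)
    rw [← Scheme.SpecMap_stalkMap_fromSpecStalk]
    have : Flat (Spec.map (f.left.stalkMap x)) := Flat.SpecMap_iff.2 h
    have := flat_fromSpecStalk (f.left x)
    infer_instance
  have hΨ : ∀ {K : Over S} [GrpObj K] (k : V ⟶ K) [Flat k.left] (l : G ⟶ K),
      Flat (lift (fst V G ≫ k) (snd V G)).left → ∀ [Flat (fst K G).left],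
      Flat ((fst V G ≫ k) * (snd V G ≫ l)).left := by
    intro K _ k _ l h1 _
    have e : (fst V G ≫ k) * (snd V G ≫ l) =
        lift (fst V G ≫ k) (snd V G) ≫ (trR l).hom ≫ fst K G := by
      simp [trR, MonObj.comp_mul]
    rw [e, Over.comp_left, Over.comp_left]
    have : IsIso (trR l).hom.left := ((Over.forget S).mapIso (trR l)).isIso_hom
    infer_instance
  have hw : ∀ {K : Over S} (k : V ⟶ K) [Flat k.left], Flat (lift (fst V G ≫ k) (snd V G)).left := by
    intro K k hk
    have h1 : (lift (fst V G ≫ k) (snd V G)).left = pullback.map V.hom G.hom K.hom G.hom k.left (𝟙 _)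
        (𝟙 _) (by simp) (by simp) := by
      apply pullback.hom_ext
      · rw [pullback.lift_fst]
        exact congrArg (fun z => z.left) (lift_fst (fst V G ≫ k) (snd V G))
      · rw [pullback.lift_snd, Category.comp_id]
        exact congrArg (fun z => z.left) (lift_snd (fst V G ≫ k) (snd V G))
    rw [h1]
    exact MorphismProperty.pullback_map (P := @Flat) hk inferInstance (by simp) (by simp)
  have hfl : ∀ (K : Over S), Flat (fst K G).left := fun K =>
    MorphismProperty.pullback_fst K.hom G.hom ‹_›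
  have := hfl G
  have := hfl H
  let Φ : V ⊗ G ⟶ G := (fst V G ≫ j) * (snd V G ≫ 𝟙 G)
  have : Flat Φ.left := hΨ j (𝟙 G) (hw j)
  have : Flat (Φ ≫ f).left := by
    rw [show Φ ≫ f = (fst V G ≫ j ≫ f) * (snd V G ≫ f) by simp [Φ, MonObj.mul_comp]]
    exact hΨ (j ≫ f) f (hw (j ≫ f))
  have : Surjective Φ.left := ⟨fun g => by
    obtain ⟨T, _, a, b, ha, hb⟩ :=
      exists_pt₂ (X := V) (Y := G) (IsLocalRing.closedPoint (G.left.presheaf.stalk x) : Spec (G.left.presheaf.stalk x)) g
    obtain ⟨t⟩ := IsPt.nonempty T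
    refine ⟨(lift a ((a ≫ j)⁻¹ * b)).left t, ?_⟩
    rw [← Scheme.Hom.comp_apply, ← Over.comp_left,
      show lift a ((a ≫ j)⁻¹ * b) ≫ Φ = b by simp [Φ, MonObj.comp_mul], hb]⟩
  rw [Over.comp_left] at *
  exact GrpdLib.flat_of_flat_comp Φ.left f.left

omit [GrpObj G] [GrpObj H] [IsMonHom f] in
/-- A quasi-compact morphism reaches the maximal points in the closure of its image. -/
theorem mem_range_of_maximal {X Y : Scheme.{u}} (g : X ⟶ Y) [QuasiCompact g] {y : Y}
    (hy : ∀ z, z ⤳ y → z = y) (hc : y ∈ closure (Set.range g)) : y ∈ Set.range g := by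
  obtain ⟨V, hV, hyV, -⟩ := exists_isAffineOpen_mem_and_subset (X := Y) (x := y) (U := ⊤) trivial
  have hcpt : IsCompact (g ⁻¹' (V : Set Y)) := QuasiCompact.isCompact_preimage _ V.2 hV.isCompact
  have : CompactSpace (g ⁻¹ᵁ V).toScheme := isCompact_iff_compactSpace.mp hcpt
  obtain ⟨R, q, hq⟩ := compactSpace_iff_exists.mp (this : CompactSpace (g ⁻¹ᵁ V).toScheme)
  obtain ⟨φ, hφ⟩ := Spec.map_surjective (q ≫ (g ∣_ V) ≫ hV.isoSpec.hom)
  have hfac : Spec.map φ ≫ hV.fromSpec = q ≫ (g ⁻¹ᵁ V).ι ≫ g := by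
    rw [hφ, Category.assoc, Category.assoc, IsAffineOpen.isoSpec_hom_fromSpec, morphismRestrict_ι]
  obtain ⟨p, hp⟩ : y ∈ Set.range hV.fromSpec := hV.range_fromSpec.symm ▸ hyV
  have hmem : p ∈ closure (Set.range (Spec.map φ)) := by
    have : hV.fromSpec ⁻¹' Set.range g = Set.range (Spec.map φ) := by
      ext z
      constructor
      · rintro ⟨x, hx⟩
        have hxV : g x ∈ V := hx ▸ hV.range_fromSpec.subset ⟨z, rfl⟩
        obtain ⟨r, hr⟩ := hq ⟨x, hxV⟩
        refine ⟨r, hV.fromSpec.isOpenEmbedding.injective ?_⟩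
        rw [← Scheme.Hom.comp_apply, hfac, Scheme.Hom.comp_apply, Scheme.Hom.comp_apply, hr]
        exact hx
      · rintro ⟨r, rfl⟩
        exact ⟨(g ⁻¹ᵁ V).ι (q r), by rw [← Scheme.Hom.comp_apply _ hV.fromSpec, hfac]; rfl⟩
    rw [← this, ← hV.fromSpec.isOpenEmbedding.isOpenMap.preimage_closure_eq_closure_preimage
      hV.fromSpec.continuous, Set.mem_preimage, hp]
    exact hc
  change p ∈ closure (Set.range (PrimeSpectrum.comap φ.hom)) at hmem
  rw [PrimeSpectrum.closure_range_comap] at hmem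
  replace hmem : RingHom.ker φ.hom ≤ p.asIdeal := hmem
  obtain ⟨P, hP, hPp⟩ := Ideal.exists_minimalPrimes_le hmem
  obtain ⟨Q, hQ, hQP⟩ := Ideal.exists_comap_eq_of_mem_minimalPrimes φ.hom P (I := ⊥) hP
  obtain ⟨z, hz⟩ : ∃ z : Spec _, z = (⟨P, hP.1.1⟩ : PrimeSpectrum _) := ⟨_, rfl⟩
  have hzr : z ∈ Set.range (Spec.map φ) := ⟨(⟨Q, hQ⟩ : PrimeSpectrum _), hz ▸ PrimeSpectrum.ext hQP.2⟩
  have hsp : z ⤳ p := hz ▸ (PrimeSpectrum.le_iff_specializes _ _).1 hPp
  obtain ⟨r, hr⟩ := hzr
  refine ⟨(g ⁻¹ᵁ V).ι (q r), ?_⟩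
  rw [← hy _ (hp ▸ hsp.map hV.fromSpec.continuous), ← hr, ← Scheme.Hom.comp_apply _ hV.fromSpec, hfac]
  rfl

/-- A quasi-compact dominant homomorphism over a field is surjective. -/
theorem surjective_of_denseRange [PointBase S] [IsIntegral S] [Subsingleton S] [QuasiCompact f.left]
    (hf : DenseRange f.left) : Surjective f.left := by
  refine ⟨fun h => ?_⟩
  obtain ⟨T, _, γ, hγ⟩ := exists_pt h
  obtain ⟨t⟩ := IsPt.nonempty T
  have : Flat T.hom := inferInstance
  have hfst : GeneralizingMap (fst H T).left :=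
    have : Flat (fst H T).left := MorphismProperty.pullback_fst H.hom T.hom ‹_›
    Flat.generalizingMap _
  have hmem : ∀ y : (H ⊗ T).left, (∀ z, z ⤳ y → z = y) → (fst H T).left y ∈ Set.range f.left := by
    intro y hy
    refine mem_range_of_maximal f.left (fun z hz => ?_) (hf _)
    obtain ⟨z', hz', rfl⟩ := hfst hz
    rw [hy z' hz']
  have : Nonempty (H ⊗ T).left := ⟨(lift γ (𝟙 T)).left t⟩
  obtain ⟨x⟩ := this
  let hI := isIrreducible_irreducibleComponent (x := x)
  have hgen := hI.isGenericPoint_genericPoint isClosed_irreducibleComponent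
  let y := hI.genericPoint
  have hy : ∀ z, z ⤳ y → z = y := fun z hz => by
    have hle : irreducibleComponent x ⊆ closure {z} := fun w hw =>
      specializes_iff_mem_closure.mp (hz.trans (hgen.specializes hw))
    have heq := eq_irreducibleComponent isIrreducible_singleton.closure.2 hle
    exact IsGenericPoint.eq (show IsGenericPoint z (irreducibleComponent x) from heq) hgen
  let e := trR γ
  have hey : ∀ z, z ⤳ homeo e y → z = homeo e y := fun z hz => by
    have := hy _ (by simpa using hz.map (homeo e).symm.continuous)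
    rw [← this, Homeomorph.apply_symm_apply]
  obtain ⟨T', _, w, hw⟩ := exists_pt y
  obtain ⟨t'⟩ := IsPt.nonempty T'
  have hA := isSubgroupSet_range f (S := S)
  have ha : ∀ s, (w ≫ fst H T).left s ∈ Set.range f.left := fun s => by
    rw [Over.comp_left, Scheme.Hom.comp_apply, hw]; exact hmem y hy
  have hb : ∀ s, (w ≫ e.hom ≫ fst H T).left s ∈ Set.range f.left := fun s => by
    rw [Over.comp_left, Over.comp_left, Scheme.Hom.comp_apply, Scheme.Hom.comp_apply, hw]
    exact hmem _ hey
  have := hA.mul _ _ (hA.inv _ ha) hb t'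
  rwa [show (w ≫ fst H T)⁻¹ * (w ≫ e.hom ≫ fst H T) = (w ≫ snd H T) ≫ γ by simp [e, trR, MonObj.comp_mul],
    Over.comp_left, Scheme.Hom.comp_apply, hγ] at this

end Groth.Agent.GrpField
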