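import Groth.Agent.GrpField.Translate
import Mathlib.AlgebraicGeometry.AlgClosed.Basic
import Mathlib.AlgebraicGeometry.Geometrically.Irreducible
import Mathlib.AlgebraicGeometry.Noetherian
import Mathlib.AlgebraicGeometry.Morphisms.UniversallyClosed
import Mathlib.AlgebraicGeometry.Morphisms.Integral
import Mathlib.FieldTheory.IsAlgClosed.AlgebraicClosure
import Mathlib.Topology.NoetherianSpace

/-!
# Connected group schemes locally of finite type over a field are geometrically irreducible
-/

universe u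

open CategoryTheory CategoryTheory.Limits MonoidalCategory CartesianMonoidalCategory MonObj AlgebraicGeometry TopologicalSpace

namespace Groth.Agent.GrpField

/-- A connected space locally irreducible is irreducible. -/
theorem irreducibleSpace_of_nhds {X : Type*} [TopologicalSpace X] [ConnectedSpace X]
    (h : ∀ x : X, ∃ W : Set X, IsOpen W ∧ IsIrreducible W ∧ x ∈ W) : IrreducibleSpace X := by
  have key : ∀ W : Set X, IsOpen W → IsIrreducible W → ∀ U : Set X, IsOpen U → U.Nonempty →
      (W ∩ U).Nonempty := by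
    intro W hW hWi U hU hUn
    let A : Set X := {x | ∃ W : Set X, IsOpen W ∧ IsIrreducible W ∧ x ∈ W ∧ (W ∩ U).Nonempty}
    have ho : IsOpen A := isOpen_iff_forall_mem_open.2 fun x ⟨W₁, h1, h2, h3, h4⟩ =>
      ⟨W₁, fun y hy => ⟨W₁, h1, h2, hy, h4⟩, h1, h3⟩
    have hc : IsClosed A := by
      refine isClosed_of_closure_subset fun x hx => ?_
      obtain ⟨W₁, h1, h2, h3⟩ := h x
      refine ⟨W₁, h1, h2, h3, ?_⟩
      obtain ⟨y, hy, W₂, h1', h2', h3', h4'⟩ := mem_closure_iff.1 hx W₁ h1 h3
      obtain ⟨z, -, hz1, hz2⟩ := h2'.2 W₁ U h1 hU ⟨y, h3', hy⟩ h4'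
      exact ⟨z, hz1, hz2⟩
    obtain ⟨u, hu⟩ := hUn
    have hA : A = Set.univ := IsClopen.eq_univ ⟨hc, ho⟩ (by
      obtain ⟨W₁, h1, h2, h3⟩ := h u
      exact ⟨u, W₁, h1, h2, h3, u, h3, hu⟩)
    obtain ⟨x, hx⟩ := hWi.1
    obtain ⟨W₂, h1', h2', h3', h4'⟩ : x ∈ A := hA ▸ trivial
    obtain ⟨z, -, hz1, hz2⟩ := h2'.2 W U hW hU ⟨x, h3', hx⟩ h4'
    exact ⟨z, hz1, hz2⟩
  obtain ⟨x₀⟩ := (inferInstance : Nonempty X)
  obtain ⟨W, hW, hWi, -⟩ := h x₀
  have : PreirreducibleSpace X := ⟨fun u v hu hv hun hvn => by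
    obtain ⟨a, -, ha⟩ := hun
    obtain ⟨b, -, hb⟩ := hvn
    obtain ⟨z, -, h1, h2⟩ := hWi.2 u v hu hv (key W hW hWi u hu ⟨a, ha⟩) (key W hW hWi v hv ⟨b, hb⟩)
    exact ⟨z, trivial, h1, h2⟩⟩
  exact ⟨inferInstance⟩

/-- A nonempty locally noetherian scheme has a nonempty irreducible open subset. -/
theorem exists_irreducible_open (X : Scheme.{u}) [IsLocallyNoetherian X] [Nonempty X] :
    ∃ W : Set X, IsOpen W ∧ IsIrreducible W := by
  obtain ⟨x⟩ := (inferInstance : Nonempty X)
  obtain ⟨V, hV, hxV, -⟩ := exists_isAffineOpen_mem_and_subset (X := X) (x := x) (U := ⊤) trivial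
  have : IsNoetherianRing Γ(X, V) := IsLocallyNoetherian.component_noetherian ⟨V, hV⟩
  have : NoetherianSpace (Spec Γ(X, V)) := inferInstanceAs (NoetherianSpace (PrimeSpectrum _))
  obtain ⟨p, -⟩ : x ∈ Set.range hV.fromSpec := hV.range_fromSpec.symm ▸ hxV
  obtain ⟨o, ho, hon, hoZ⟩ := NoetherianSpace.exists_isOpen_nonempty_subset_irreducibleComponent _
    (irreducibleComponent_mem_irreducibleComponents p)
  refine ⟨hV.fromSpec '' o, hV.fromSpec.isOpenEmbedding.isOpenMap o ho, hon.image _, ?_⟩
  refine IsPreirreducible.image ?_ _ hV.fromSpec.continuous.continuousOn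
  exact isIrreducible_irreducibleComponent.2.open_subset ho hoZ

variable {K : Type u} [Field K]

/-- The fibre over a rational point is a single point. -/
theorem subsingleton_preimage_section {L : Type u} [Field L] {X : Scheme.{u}}
    (f : X ⟶ Spec (CommRingCat.of K)) (g : Spec (CommRingCat.of L) ⟶ Spec (CommRingCat.of K))
    (p : Spec (CommRingCat.of K) ⟶ X) (hp : p ≫ f = 𝟙 _) (t : Spec (CommRingCat.of K)) :
    ((pullback.fst f g) ⁻¹' {p t}).Subsingleton := by
  let m := pullback.map (p ≫ f) g f g p (𝟙 _) (𝟙 _) (by simp) (by simp)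
  have hr : (pullback.fst f g) ⁻¹' {p t} ⊆ Set.range m := by
    rw [Scheme.Pullback.range_map]
    intro z hz
    exact ⟨⟨t, hz.symm⟩, ⟨_, rfl⟩⟩
  have : IsIso (pullback.snd (p ≫ f) g) := by rw [hp]; infer_instance
  have : Subsingleton (pullback (p ≫ f) g : Scheme.{u}) :=
    (asIso (pullback.snd (p ≫ f) g)).hom.homeomorph.injective.subsingleton (α := _)
      (β := Spec (CommRingCat.of L))
  exact (Set.subsingleton_range m).anti hr

/-- Irreducibility over an algebraically closed field is geometric. -/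
theorem irreducibleSpace_pullback [IsAlgClosed K] {L : Type u} [Field L] {X : Scheme.{u}}
    (f : X ⟶ Spec (CommRingCat.of K)) [LocallyOfFiniteType f] [IrreducibleSpace X]
    (g : Spec (CommRingCat.of L) ⟶ Spec (CommRingCat.of K)) : IrreducibleSpace ↥(pullback f g) := by
  have : Subsingleton (Spec (CommRingCat.of K)) := inferInstanceAs (Subsingleton (PrimeSpectrum K))
  have : JacobsonSpace X := LocallyOfFiniteType.jacobsonSpace f
  have : Surjective g := PointBase.surj L g
  have : UniversallyOpen g := PointBase.uopen L g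
  obtain ⟨x₀⟩ := (inferInstance : Nonempty X)
  obtain ⟨z₀, -⟩ := (pullback.fst f g).surjective x₀
  have : PreirreducibleSpace ↥(pullback f g) := ⟨fun u v hu hv hun hvn => by
    obtain ⟨a, -, ha⟩ := hun
    obtain ⟨b, -, hb⟩ := hvn
    have hou := (pullback.fst f g).isOpenMap u hu
    have hov := (pullback.fst f g).isOpenMap v hv
    obtain ⟨x, hx, hxc⟩ := nonempty_inter_closedPoints (Z := pullback.fst f g '' u ∩ pullback.fst f g '' v)
      (nonempty_preirreducible_inter hou hov ⟨_, a, ha, rfl⟩ ⟨_, b, hb, rfl⟩)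
      (hou.inter hov).isLocallyClosed
    obtain ⟨⟨a', ha', ea⟩, b', hb', eb⟩ := hx
    let p := pointOfClosedPoint f x hxc
    have hp : p (IsLocalRing.closedPoint K) = x := pointOfClosedPoint_apply f x hxc _
    have := subsingleton_preimage_section f g p (pointOfClosedPoint_comp f x hxc)
      (IsLocalRing.closedPoint K) (show pullback.fst f g a' ∈ ({p _} : Set X) from ea.trans hp.symm)
      (show pullback.fst f g b' ∈ ({p _} : Set X) from eb.trans hp.symm)
    exact ⟨a', trivial, ha', this ▸ hb'⟩⟩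
  exact ⟨⟨z₀⟩⟩

/-- Connectedness with a rational point passes to algebraic extensions. -/
theorem connectedSpace_pullback {L : Type u} [Field L] [Algebra K L] [Algebra.IsIntegral K L]
    {X : Scheme.{u}} (f : X ⟶ Spec (CommRingCat.of K)) [ConnectedSpace X]
    (p : Spec (CommRingCat.of K) ⟶ X) (hp : p ≫ f = 𝟙 _) :
    ConnectedSpace ↥(pullback f (Spec.map (CommRingCat.ofHom (algebraMap K L)))) := by
  have : Subsingleton (Spec (CommRingCat.of K)) := inferInstanceAs (Subsingleton (PrimeSpectrum K))
  let g := Spec.map (CommRingCat.ofHom (algebraMap K L))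
  have : IsIntegralHom g := IsIntegralHom.SpecMap_iff.2 Algebra.IsIntegral.isIntegral
  have : UniversallyOpen g := PointBase.uopen L g
  have : Surjective g := PointBase.surj L g
  let π := pullback.fst f g
  obtain ⟨z, hz⟩ := π.surjective (p (IsLocalRing.closedPoint K))
  have hu : ∀ U : Set ↥(pullback f g), IsClopen U → U.Nonempty → z ∈ U := by
    intro U hU hUn
    have : π '' U = Set.univ :=
      IsClopen.eq_univ ⟨π.isClosedMap U hU.1, π.isOpenMap U hU.2⟩ (hUn.image π)
    obtain ⟨z', hz', e⟩ : p (IsLocalRing.closedPoint K) ∈ π '' U := this ▸ trivial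
    rwa [subsingleton_preimage_section f g p hp (IsLocalRing.closedPoint K) (x := z) hz e]
  have : PreconnectedSpace ↥(pullback f g) := preconnectedSpace_iff_clopen.2 fun U hU => by
    by_contra h
    rw [not_or] at h
    obtain ⟨h1, h2⟩ := h
    replace h := And.intro (Set.nonempty_iff_ne_empty.2 h1) (Set.nonempty_compl.2 h2)
    exact hu Uᶜ hU.compl h.2 (hu U hU h.1)
  exact ⟨⟨z⟩⟩

/-- Right translation by a rational point. -/
noncomputable def transl {S : Scheme.{u}} {G : Over S} [GrpObj G] (c : 𝟙_ (Over S) ⟶ G) : G ≅ G where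
  hom := 𝟙 G * (toUnit G ≫ c)
  inv := 𝟙 G * (toUnit G ≫ c)⁻¹
  hom_inv_id := by simp [MonObj.comp_mul, GrpObj.comp_inv, comp_toUnit_assoc]
  inv_hom_id := by simp [MonObj.comp_mul, GrpObj.comp_inv, comp_toUnit_assoc]

/-- Over an algebraically closed field every point of a group scheme has an irreducible open
neighbourhood. -/
theorem exists_irreducible_nhd [IsAlgClosed K] (G : Over (Spec (CommRingCat.of K))) [GrpObj G]
    [LocallyOfFiniteType G.hom] (y : G.left) :
    ∃ W : Set G.left, IsOpen W ∧ IsIrreducible W ∧ y ∈ W := by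
  have : JacobsonSpace G.left := LocallyOfFiniteType.jacobsonSpace G.hom
  have : IsLocallyNoetherian G.left := LocallyOfFiniteType.isLocallyNoetherian G.hom
  have : Nonempty G.left := ⟨y⟩
  obtain ⟨W₀, hW₀, hW₀i⟩ := exists_irreducible_open G.left
  obtain ⟨w, hw, hwc⟩ := nonempty_inter_closedPoints hW₀i.1 hW₀.isLocallyClosed
  let pt : ∀ x : G.left, x ∈ closedPoints G.left → (𝟙_ (Over (Spec (CommRingCat.of K))) ⟶ G) :=
    fun x hx => Over.homMk (pointOfClosedPoint G.hom x hx) (pointOfClosedPoint_comp G.hom x hx)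
  let O : Set G.left := {x | ∃ W : Set G.left, IsOpen W ∧ IsIrreducible W ∧ x ∈ W}
  have hO : IsOpen O := isOpen_iff_forall_mem_open.2 fun x ⟨W₁, h1, h2, h3⟩ =>
    ⟨W₁, fun z hz => ⟨W₁, h1, h2, hz⟩, h1, h3⟩
  have hcl : ∀ x ∈ closedPoints G.left, x ∈ O := by
    intro x hx
    let a := pt w hwc
    let b := pt x hx
    let e := homeo (transl (a⁻¹ * b))
    have he : e w = x := by
      obtain ⟨t⟩ : Nonempty (𝟙_ (Over (Spec (CommRingCat.of K)))).left :=
        inferInstanceAs (Nonempty (PrimeSpectrum K))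
      have h1 : a ≫ (transl (a⁻¹ * b)).hom = b := by simp [transl, MonObj.comp_mul]
      have h2 := congrArg (fun k => k.left t) h1
      simp only [Over.comp_left, Scheme.Hom.comp_apply] at h2
      change (transl (a⁻¹ * b)).hom.left w = x
      rwa [show a.left t = w from pointOfClosedPoint_apply G.hom w hwc t,
        show b.left t = x from pointOfClosedPoint_apply G.hom x hx t] at h2
    exact ⟨e '' W₀, e.isOpenMap W₀ hW₀, hW₀i.image e e.continuous.continuousOn, he ▸ ⟨w, hw, rfl⟩⟩
  by_contra hy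
  obtain ⟨x, hx, hxc⟩ := nonempty_inter_closedPoints (Z := Oᶜ) ⟨y, hy⟩ hO.isClosed_compl.isLocallyClosed
  exact hx (hcl x hxc)

attribute [local instance] Over.grpObjMkPullbackSnd

/-- A connected group scheme locally of finite type over a field is geometrically irreducible. -/
theorem geometricallyIrreducible_of_connected (G : Over (Spec (CommRingCat.of K))) [GrpObj G]
    [LocallyOfFiniteType G.hom] [ConnectedSpace G.left] : GeometricallyIrreducible G.hom := by
  refine ⟨fun L _ y Z fst snd h => ?_⟩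
  obtain ⟨φ, rfl⟩ := Spec.map_surjective y
  let L' := AlgebraicClosure L
  let K' := AlgebraicClosure K
  let : Algebra K L' := ((algebraMap L L').comp φ.hom).toAlgebra
  let ι' : K' →ₐ[K] L' := IsAlgClosed.lift
  let g := Spec.map (CommRingCat.ofHom (algebraMap K K'))
  let G' : Over (Spec (CommRingCat.of K')) := Over.mk (pullback.snd G.hom g)
  have : GrpObj (Over.mk G.hom) := inferInstanceAs (GrpObj G)
  have : LocallyOfFiniteType G'.hom := inferInstanceAs (LocallyOfFiniteType (pullback.snd G.hom g))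
  have : ConnectedSpace G'.left := connectedSpace_pullback G.hom
    (η[G] : 𝟙_ (Over (Spec (CommRingCat.of K))) ⟶ G).left (Over.w η[G])
  have : IrreducibleSpace G'.left := irreducibleSpace_of_nhds (exists_irreducible_nhd G')
  let v := Spec.map (CommRingCat.ofHom ι'.toRingHom)
  have : IrreducibleSpace ↥(pullback G'.hom v) := irreducibleSpace_pullback G'.hom v
  let r := Spec.map (CommRingCat.ofHom (algebraMap L L'))
  have : Surjective r := PointBase.surj L' r
  have e : v ≫ g = r ≫ Spec.map φ := by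
    rw [← Spec.map_comp, ← Spec.map_comp]
    congr 1
    ext a
    exact ι'.commutes a
  let q : pullback G'.hom v ⟶ Z :=
    (pullbackLeftPullbackSndIso G.hom g v).hom ≫ (pullback.congrHom rfl e).hom ≫
      (pullbackLeftPullbackSndIso G.hom (Spec.map φ) r).inv ≫ pullback.fst _ r ≫ h.isoPullback.inv
  have : Surjective q := inferInstance
  exact Function.Surjective.irreducibleSpace q.continuous q.surjective

end Groth.Agent.GrpField
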