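import Groth.Agent.GrpField.Spread
import Groth.Agent.GenFree.Scheme
import Mathlib.AlgebraicGeometry.Noetherian
import Mathlib.AlgebraicGeometry.Morphisms.Proper

/-!
# The image of a quasi-compact homomorphism of group schemes over a point
-/

universe u

open CategoryTheory CategoryTheory.Limits MonoidalCategory CartesianMonoidalCategory MonObj AlgebraicGeometry
open MorphismProperty (DescendsAlong)

namespace Groth.Agent.GrpField

variable {S : Scheme.{u}} {G H : Over S} [GrpObj G] [GrpObj H] (f : G ⟶ H) [IsMonHom f]

omit [GrpObj G] [GrpObj H] [IsMonHom f] in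
lemma isReduced_vanishingIdeal (C : TopologicalSpace.Closeds H.left) :
    IsReduced (Scheme.IdealSheafData.vanishingIdeal C).subscheme := by
  apply +allowSynthFailures @IsReduced.of_openCover
    (𝒰 := (Scheme.IdealSheafData.vanishingIdeal C).subschemeCover.openCover)
  intro U
  have : _root_.IsReduced (Γ(H.left, U.1) ⧸ (Scheme.IdealSheafData.vanishingIdeal C).ideal U) := by
    rw [← Ideal.isRadical_iff_quotient_reduced, Scheme.IdealSheafData.vanishingIdeal_ideal]
    exact PrimeSpectrum.isRadical_vanishingIdeal _
  exact inferInstanceAs (IsReduced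
    (Spec (CommRingCat.of (Γ(H.left, U.1) ⧸ (Scheme.IdealSheafData.vanishingIdeal C).ideal U))))

omit [GrpObj G] [GrpObj H] [IsMonHom f] in
/-- A property over an open piece of a closed subscheme gives it on the corresponding set. -/
theorem rel_image_of_restrict (P : MorphismProperty Scheme.{u}) [P.IsStableUnderBaseChange]
    [P.DescendsAlong OpenCov] {Z : Scheme.{u}} (i : Z ⟶ H.left) [IsClosedImmersion i] (U : Z.Opens)
    (h : P (pullback.snd f.left i ∣_ U)) : Rel f P (i '' U) := by
  intro Y g hg
  have hU : P (pullback.snd f.left (U.ι ≫ i)) := by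
    have sq := (isPullback_morphismRestrict (pullback.snd f.left i) U).flip.paste_horiz
      (IsPullback.of_hasPullback f.left i)
    rw [← P.cancel_left_of_respectsIso sq.isoPullback.hom, IsPullback.isoPullback_hom_snd]
    exact h
  let p := pullback.fst g i
  have : Surjective p := ⟨fun y => by
    obtain ⟨z, -, hz⟩ := hg y
    obtain ⟨w, h1, -⟩ := Scheme.Pullback.exists_preimage_pullback (f := g) (g := i) y z hz.symm
    exact ⟨w, h1⟩⟩
  have : UniversallyOpen p := universallyOpen_of_isClosedImmersion p
  apply snd_of_comp_cov f P g p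
  have hq : Set.range (pullback.snd g i) ⊆ Set.range U.ι := by
    rintro _ ⟨w, rfl⟩
    obtain ⟨z, hz, hz'⟩ := hg (p w)
    have : i (pullback.snd g i w) = i z := by
      rw [hz', ← Scheme.Hom.comp_apply, ← pullback.condition, Scheme.Hom.comp_apply]
    rw [i.isClosedEmbedding.injective this, Scheme.Opens.range_ι]
    exact hz
  rw [show p ≫ g = IsOpenImmersion.lift U.ι (pullback.snd g i) hq ≫ U.ι ≫ i by
    rw [IsOpenImmersion.lift_fac_assoc]; exact pullback.condition]
  exact snd_of_comp f P _ _ hU

variable [PointBase S]

/-- The image of a quasi-compact homomorphism locally of finite presentation is closed. -/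
theorem isClosed_range [Nonempty S] [QuasiCompact f.left] [LocallyOfFinitePresentation f.left] :
    IsClosed (Set.range f.left) := by
  have hA : Topology.IsLocallyConstructible (Set.range f.left) := by
    rw [← Set.image_univ]
    exact f.left.isLocallyConstructible_image .univ
  let O : Set H.left := ⋃₀ {W | IsOpen W ∧ closure (Set.range f.left) ∩ W ⊆ Set.range f.left}
  refine (isSubgroupSet_range f).isClosed (U := closure (Set.range f.left) ∩ O)
    (fun x ⟨hx, W, hW, hxW⟩ => hW.2 ⟨hx, hxW⟩) ⟨O, isOpen_sUnion fun W hW => hW.1, rfl⟩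
    (fun x hx => mem_closure_iff.2 fun W hW hxW => ?_)
  obtain ⟨W', h1, h2, ⟨z, hz, hzA⟩, h3⟩ :=
    exists_isOpen_inter_closure_subset hA hW (mem_closure_iff.1 hx W hW hxW)
  exact ⟨z, h1 hz, subset_closure hzA, W', ⟨h2, h3⟩, hz⟩

/-- A quasi-compact homomorphism locally of finite type with closed image is universally open over
its image. -/
theorem rel_universallyOpen [Subsingleton S] [Nonempty S] [QuasiCompact f.left]
    [LocallyOfFiniteType f.left] (hcl : IsClosed (Set.range f.left)) :
    Rel f @UniversallyOpen (Set.range f.left) := by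
  let I := Scheme.IdealSheafData.vanishingIdeal (⟨_, hcl⟩ : TopologicalSpace.Closeds H.left)
  let i := I.subschemeι
  have : IsReduced I.subscheme := isReduced_vanishingIdeal ⟨_, hcl⟩
  have hr : Set.range i = Set.range f.left := by
    rw [Scheme.IdealSheafData.range_subschemeι, Scheme.IdealSheafData.coe_support_vanishingIdeal]
    rfl
  obtain ⟨U, hU, _, _⟩ := GenFree.exists_dense_flat_fp (pullback.snd f.left i)
  obtain ⟨W, hW, hWU⟩ := i.isClosedEmbedding.isInducing.isOpen_iff.1 U.2
  have e : Set.range f.left ∩ W = i '' (U : Set I.subscheme) := by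
    change _ = i '' U.carrier
    rw [← hWU, Set.image_preimage_eq_inter_range, Set.inter_comm, hr]
  obtain ⟨z₀, hz₀⟩ : Set.range i |>.Nonempty := hr ▸ (isSubgroupSet_range f).nonempty
  obtain ⟨z, hz⟩ : (U : Set I.subscheme).Nonempty := by
    have : Nonempty I.subscheme := ⟨hz₀.choose⟩
    exact hU.nonempty
  refine rel_range_of_nonempty f @UniversallyOpen hW ?_ ?_
  · exact ⟨i z, Set.inter_comm _ W ▸ e.symm ▸ ⟨z, hz, rfl⟩⟩
  · rw [e]
    exact rel_image_of_restrict f @UniversallyOpen i U (UniversallyOpen.of_flat _)

/-- Properties of the kernel pass to the morphism over its image. -/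
theorem rel_range_of_kernel (hO : Rel f @UniversallyOpen (Set.range f.left))
    (P : MorphismProperty Scheme.{u}) [P.IsStableUnderBaseChange] [P.DescendsAlong OpenCov]
    (hK : P (pullback.snd f.left (η[H] : 𝟙_ (Over S) ⟶ H).left)) :
    Rel f P (Set.range f.left) := by
  intro Y g hg
  let p := pullback.snd f.left g
  have : UniversallyOpen p := hO g hg
  have : Surjective p := ⟨fun y => by
    obtain ⟨x, hx⟩ := hg y
    obtain ⟨z, -, h2⟩ := Scheme.Pullback.exists_preimage_pullback (f := f.left) (g := g) x y hx
    exact ⟨z, h2⟩⟩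
  apply snd_of_comp_cov f P g p
  let X : Over S := Over.mk (pullback.fst f.left g ≫ G.hom)
  let x : X ⟶ G := Over.homMk (pullback.fst f.left g)
  rw [← show (x ≫ f).left = p ≫ g from pullback.condition, translate_iff f P (x ≫ f) x⁻¹,
    GrpObj.inv_comp, mul_inv_cancel, show (1 : X ⟶ H) = toUnit X ≫ η from rfl, Over.comp_left]
  exact snd_of_comp f P _ _ hK

/-- If the kernel is universally closed and the image closed, so is the morphism. -/
theorem universallyClosed_of_rel (hcl : IsClosed (Set.range f.left))
    (hP : Rel f @UniversallyClosed (Set.range f.left)) : UniversallyClosed f.left := by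
  let I := Scheme.IdealSheafData.vanishingIdeal (⟨_, hcl⟩ : TopologicalSpace.Closeds H.left)
  let i := I.subschemeι
  have hr : Set.range i = Set.range f.left := by
    rw [Scheme.IdealSheafData.range_subschemeι, Scheme.IdealSheafData.coe_support_vanishingIdeal]
    rfl
  have : Surjective (pullback.fst f.left i) := ⟨fun x => by
    obtain ⟨z, hz⟩ : f.left x ∈ Set.range i := hr ▸ ⟨x, rfl⟩
    obtain ⟨w, h1, -⟩ := Scheme.Pullback.exists_preimage_pullback (f := f.left) (g := i) x z hz.symm
    exact ⟨w, h1⟩⟩
  have : UniversallyClosed (pullback.snd f.left i) := hP i fun y => hr ▸ ⟨y, rfl⟩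
  have : UniversallyClosed (pullback.fst f.left i ≫ f.left) := by
    rw [pullback.condition]; infer_instance
  exact UniversallyClosed.of_comp_surjective (pullback.fst f.left i) f.left

end Groth.Agent.GrpField
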