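import Groth.Agent.GrpField.Irreducible
import Mathlib.AlgebraicGeometry.Fiber

/-!
# Fibres of group schemes locally of finite presentation
-/

universe u

open CategoryTheory CategoryTheory.Limits MonoidalCategory CartesianMonoidalCategory MonObj AlgebraicGeometry

namespace Groth.Agent.GrpField

attribute [local instance] Over.grpObjMkPullbackSnd

/-- A group scheme locally of finite type with connected fibres has geometrically irreducible fibres. -/
theorem geometricallyIrreducible_of_connected_fibres {S : Scheme.{u}} (G : Over S) [GrpObj G]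
    [LocallyOfFiniteType G.hom] (hconn : ∀ s : S, _root_.IsConnected (G.hom.base ⁻¹' {s})) :
    GeometricallyIrreducible G.hom := by
  rw [GeometricallyIrreducible.iff_geometricallyIrreducible_fiber]
  intro s
  let : GrpObj (Over.mk G.hom) := inferInstanceAs (GrpObj G)
  let Gs : Over (Spec (CommRingCat.of (S.residueField s))) := Over.mk (G.hom.fiberToSpecResidueField s)
  let : GrpObj Gs := Over.grpObjMkPullbackSnd (f := G.hom) (g := S.fromSpecResidueField s)
  have : LocallyOfFiniteType Gs.hom :=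
    inferInstanceAs (LocallyOfFiniteType (pullback.snd G.hom (S.fromSpecResidueField s)))
  have : ConnectedSpace Gs.left := by
    have : ConnectedSpace ↥(G.hom ⁻¹' {s}) := isConnected_iff_connectedSpace.1 (hconn s)
    exact (G.hom.fiberHomeo s).symm.surjective.connectedSpace (G.hom.fiberHomeo s).symm.continuous
  exact geometricallyIrreducible_of_connected Gs

/-- Every point is a product of two points of an open meeting its fibre. -/
theorem exists_mul_eq_of_irreducible {S : Scheme.{u}} (G : Over S) [GrpObj G]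
    [GeometricallyIrreducible G.hom] (U : G.left.Opens) (g : G.left)
    (hU : ∃ u ∈ U, G.hom u = G.hom g) :
    ∃ z : (G ⊗ G).left, (fst G G).left z ∈ U ∧ (snd G G).left z ∈ U ∧ μ[G].left z = g := by
  let T : Over S := Over.mk (G.left.fromSpecResidueField g ≫ G.hom)
  let γ : T ⟶ G := Over.homMk (G.left.fromSpecResidueField g)
  have hγ : ∀ t, γ.left t = g := fun t => Scheme.fromSpecResidueField_apply g t
  let t₀ : T.left := IsLocalRing.closedPoint (G.left.residueField g)
  have : IrreducibleSpace (G ⊗ T).left :=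
    GeometricallyIrreducible.geometrically_irreducibleSpace (f := G.hom)
      (G.left.fromSpecResidueField g ≫ G.hom) _ _ (IsPullback.of_hasPullback G.hom T.hom)
  let e : G ⊗ T ≅ G ⊗ T := trI γ
  obtain ⟨u, hu, hug⟩ := hU
  obtain ⟨y, hy, -⟩ := Scheme.Pullback.exists_preimage_pullback (f := G.hom) (g := T.hom) u t₀ (by
    rw [hug]; change _ = G.hom (G.left.fromSpecResidueField g t₀)
    rw [Scheme.fromSpecResidueField_apply])
  have h1 : ((fst G T).left ⁻¹' U : Set (G ⊗ T).left).Nonempty := ⟨y, by change (fst G T).left y ∈ U; exact (congrArg (· ∈ U) hy).mpr hu⟩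
  have h2 : ((e.hom ≫ fst G T).left ⁻¹' U : Set (G ⊗ T).left).Nonempty := by
    refine ⟨e.inv.left y, ?_⟩
    rw [Set.mem_preimage, ← Scheme.Hom.comp_apply, ← Over.comp_left, Iso.inv_hom_id_assoc]
    exact (congrArg (· ∈ U) hy).mpr hu
  obtain ⟨h, h1', h2'⟩ := nonempty_preirreducible_inter (U.2.preimage (fst G T).left.continuous)
    (U.2.preimage (e.hom ≫ fst G T).left.continuous) h1 h2
  refine ⟨(lift (fst G T) (e.hom ≫ fst G T)).left h, ?_, ?_, ?_⟩
  · rw [← Scheme.Hom.comp_apply, ← Over.comp_left, lift_fst]; exact h1'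
  · rw [← Scheme.Hom.comp_apply, ← Over.comp_left, lift_snd]; exact h2'
  · rw [← Scheme.Hom.comp_apply, ← Over.comp_left, ← Hom.mul_def,
      show fst G T * (e.hom ≫ fst G T) = snd G T ≫ γ by simp [e, trI],
      Over.comp_left, Scheme.Hom.comp_apply, hγ]

/-- A universally open group scheme with geometrically irreducible fibres is quasi-compact. -/
theorem quasiCompact_of_irreducible {S : Scheme.{u}} (G : Over S) [GrpObj G]
    [GeometricallyIrreducible G.hom] [UniversallyOpen G.hom] : QuasiCompact G.hom := by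
  suffices h : ∀ s : S, ∃ D : S.Opens, s ∈ D ∧ QuasiCompact (G.hom ∣_ D) by
    choose D hD hq using h
    exact IsZariskiLocalAtTarget.of_iSup_eq_top D
      (top_le_iff.1 fun s _ => TopologicalSpace.Opens.mem_iSup.2 ⟨s, hD s⟩) hq
  intro s
  obtain ⟨V, hV, hsV, -⟩ := exists_isAffineOpen_mem_and_subset (X := S) (x := s) (U := ⊤) trivial
  obtain ⟨x, hx⟩ := G.hom.surjective s
  obtain ⟨U, hU, hxU, hUV⟩ := exists_isAffineOpen_mem_and_subset (X := G.left) (x := x)
    (U := G.hom ⁻¹ᵁ V) (show G.hom x ∈ V from hx ▸ hsV)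
  obtain ⟨f, hfle, hsf⟩ := hV.exists_basicOpen_le
    (V := ⟨G.hom '' U, G.hom.isOpenMap _ U.2⟩) ⟨s, x, hxU, hx⟩ hsV
  let D := S.basicOpen f
  let U' : G.left.Opens := U ⊓ G.hom ⁻¹ᵁ D
  have hDa : IsAffineOpen D := hV.basicOpen f
  have hU'a : IsAffineOpen U' := by
    have e : U' = G.left.basicOpen (G.hom.appLE V U hUV f) := by
      rw [Scheme.Hom.appLE, CommRingCat.comp_apply, Scheme.basicOpen_res, ← Scheme.preimage_basicOpen]
    rw [e]
    exact hU.basicOpen _
  have : IsAffine U'.toScheme := hU'a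
  have : IsAffine D.toScheme := hDa
  refine ⟨D, hsf, ?_⟩
  rw [HasAffineProperty.iff_of_isAffine (P := @QuasiCompact)]
  have hr : Set.range (U'.ι ≫ G.hom) ⊆ Set.range D.ι := by
    rintro _ ⟨v, rfl⟩
    rw [Scheme.Opens.range_ι]
    exact v.2.2
  let q : U'.toScheme ⟶ D := IsOpenImmersion.lift D.ι (U'.ι ≫ G.hom) hr
  let j : pullback q q ⟶ (G ⊗ G).left := pullback.map q q G.hom G.hom U'.ι U'.ι D.ι
    (IsOpenImmersion.lift_fac _ _ _) (IsOpenImmersion.lift_fac _ _ _)
  have : ((G.hom ⁻¹ᵁ D : G.left.Opens) : Set G.left) = Set.range (j ≫ μ[G].left) := by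
    apply Set.Subset.antisymm
    · intro g hg
      obtain ⟨u, hu, hug⟩ := hfle hg
      obtain ⟨z, hz1, hz2, hz3⟩ := exists_mul_eq_of_irreducible G U' g
        ⟨u, ⟨hu, show G.hom u ∈ D from hug ▸ hg⟩, hug⟩
      obtain ⟨w, hw⟩ : z ∈ Set.range j := by
        rw [Scheme.Pullback.range_map, Scheme.Opens.range_ι]
        exact ⟨hz1, hz2⟩
      exact ⟨w, by rw [Scheme.Hom.comp_apply, hw, hz3]⟩
    · rintro _ ⟨w, rfl⟩
      change (j ≫ μ[G].left ≫ G.hom) w ∈ D
      rw [Over.w μ[G]]
      have hw : (j ≫ (fst G G).left) w ∈ G.hom ⁻¹ᵁ D := by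
        rw [show j ≫ (fst G G).left = pullback.fst q q ≫ U'.ι from pullback.lift_fst _ _ _]
        exact (pullback.fst q q w).2.2
      rw [← Over.w (fst G G)]
      exact hw
  refine isCompact_iff_compactSpace.1 ?_
  rw [this]
  exact isCompact_range (j ≫ μ[G].left).continuous

end Groth.Agent.GrpField
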