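import Groth.Agent.GrpField.Isogeny
import Groth.Agent.SmoothRed.Scheme
import Mathlib.AlgebraicGeometry.Geometrically.Connected

/-!
# Abelian varieties: flat, finite and surjective homomorphisms
-/

universe u

open CategoryTheory CategoryTheory.Limits MonoidalCategory CartesianMonoidalCategory MonObj AlgebraicGeometry TopologicalSpace

namespace Groth.Agent.GrpField

variable {k : Type u} [Field k]

/-- A smooth geometrically connected group over a field is integral. -/
theorem isIntegral_of_smooth_connected (G : Over (Spec (CommRingCat.of k))) [GrpObj G] [Smooth G.hom]
    [GeometricallyConnected G.hom] : IsIntegral G.left := by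
  have : Subsingleton (Spec (CommRingCat.of k)) := inferInstanceAs (Subsingleton (PrimeSpectrum k))
  have : ConnectedSpace (Spec (CommRingCat.of k)) := inferInstance
  have : ConnectedSpace G.left := GeometricallyConnected.connectedSpace_of_subsingleton G.hom
  have : GeometricallyIrreducible G.hom := geometricallyIrreducible_of_connected G
  have : IrreducibleSpace G.left := by
    have := GeometricallyIrreducible.geometrically_irreducibleSpace (f := G.hom)
      (𝟙 (Spec (CommRingCat.of k))) _ _ (IsPullback.of_hasPullback G.hom (𝟙 _))
    exact (pullback.fst G.hom (𝟙 (Spec (CommRingCat.of k)))).surjective.irreducibleSpace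
      (pullback.fst G.hom (𝟙 (Spec (CommRingCat.of k)))).continuous
  have : IsReduced G.left := Groth.Agent.SmoothRed.isReduced_of_smooth_scheme G.hom
  exact isIntegral_of_irreducibleSpace_of_isReduced G.left

variable {A B : Over (Spec (CommRingCat.of k))} [GrpObj A] [GrpObj B] (f : A ⟶ B) [IsMonHom f]

/-- A flat homomorphism to a connected group, with proper source, is surjective. -/
theorem surjective_of_flat [IsProper A.hom] [IsProper B.hom] [IsIntegral B.left] [Flat f.left] :
    Surjective f.left := by
  have : IsProper (f.left ≫ B.hom) := by rw [Over.w f]; infer_instance
  have : IsProper f.left := IsProper.of_comp f.left B.hom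
  have : IsLocallyNoetherian B.left := LocallyOfFiniteType.isLocallyNoetherian B.hom
  have : LocallyOfFinitePresentation f.left := inferInstance
  have hcl : IsClosed (Set.range f.left) := f.left.isClosedMap.isClosed_range
  have hop : IsOpen (Set.range f.left) := f.left.isOpenMap.isOpen_range
  have huniv : Set.range f.left = Set.univ := IsClopen.eq_univ ⟨hcl, hop⟩
    ⟨_, η[A].left (IsLocalRing.closedPoint k), rfl⟩
  exact ⟨Set.range_eq_univ.1 huniv⟩

/-- For groups of the same dimension, flat = finite = surjective. -/
theorem flat_iff_isFinite [IsProper A.hom] [IsIntegral A.left] [IsProper B.hom] [IsIntegral B.left]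
    (hdim : topologicalKrullDim A.left = topologicalKrullDim B.left) :
    Flat f.left ↔ IsFinite f.left := by
  constructor
  · intro _
    have := surjective_of_flat f
    exact (isFinite_flat f hdim).1
  · intro _
    have := surjective_of_isFinite f hdim
    exact flat_of_surjective f

/-- For groups of the same dimension, quasi-finite = surjective. -/
theorem locallyQuasiFinite_iff_surjective [IsProper A.hom] [IsIntegral A.left] [IsProper B.hom]
    [IsIntegral B.left] (hdim : topologicalKrullDim A.left = topologicalKrullDim B.left) :
    LocallyQuasiFinite f.left ↔ Surjective f.left := by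
  have : IsProper (f.left ≫ B.hom) := by rw [Over.w f]; infer_instance
  have : IsProper f.left := IsProper.of_comp f.left B.hom
  constructor
  · intro _
    have := IsFinite.of_isProper_of_locallyQuasiFinite f.left
    exact surjective_of_isFinite f hdim
  · intro _
    have := (isFinite_flat f hdim).1
    infer_instance

end Groth.Agent.GrpField
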