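import Groth.Agent.GrpField.Range
import Mathlib.AlgebraicGeometry.ZariskisMainTheorem
import Mathlib.AlgebraicGeometry.Artinian

/-!
# Quasi-compact homomorphisms of group schemes over a point and their kernels
-/

universe u

open CategoryTheory CategoryTheory.Limits MonoidalCategory CartesianMonoidalCategory MonObj AlgebraicGeometry
open MorphismProperty (DescendsAlong)

namespace Groth.Agent.GrpField

instance : MorphismProperty.IsStableUnderBaseChange (@IsSeparated : MorphismProperty Scheme.{u}) :=
  inferInstance

instance descendsAlong_isSeparated : DescendsAlong @IsSeparated OpenCov.{u} := by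
  refine DescendsAlong.mk' fun {X Y Z v g} _ hv hfst => ⟨?_⟩
  have : UniversallyClosed (pullback.diagonal g) :=
    MorphismProperty.of_pullback_fst_of_descendsAlong (P := MorphismProperty.diagonal @UniversallyClosed)
      (Q := OpenCov) hv (show UniversallyClosed (pullback.diagonal (pullback.fst v g)) from inferInstance)
  exact IsClosedImmersion.of_isPreimmersion _ (pullback.diagonal g).isClosedMap.isClosed_range

variable {S : Scheme.{u}} {G H : Over S} [GrpObj G] [GrpObj H] (f : G ⟶ H) [IsMonHom f]

/-- If the kernel has a stable property, then so has the projection of the square of `f`. -/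
theorem snd_self (P : MorphismProperty Scheme.{u}) [P.IsStableUnderBaseChange]
    (hK : P (pullback.snd f.left (η[H] : 𝟙_ (Over S) ⟶ H).left)) :
    P (pullback.snd f.left f.left) := by
  rw [translate_iff f P f (𝟙 G)⁻¹, GrpObj.inv_comp, Category.id_comp, mul_inv_cancel,
    show (1 : G ⟶ H) = toUnit G ≫ η from rfl, Over.comp_left]
  exact snd_of_comp f P _ _ hK

/-- If the fibres of the kernel are finite, so are all the fibres. -/
theorem finite_preimage_singleton
    (hK : LocallyQuasiFinite (pullback.snd f.left (η[H] : 𝟙_ (Over S) ⟶ H).left))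
    [QuasiCompact f.left] (h : H.left) : (f.left ⁻¹' {h}).Finite := by
  by_cases hh : h ∈ Set.range f.left
  · obtain ⟨g, rfl⟩ := hh
    have := snd_self f @LocallyQuasiFinite hK
    refine ((pullback.snd f.left f.left).finite_preimage_singleton g |>.image
      (pullback.fst f.left f.left)).subset fun x hx => ?_
    obtain ⟨z, h1, h2⟩ := Scheme.Pullback.exists_preimage_pullback (f := f.left) (g := f.left) x g hx
    exact ⟨z, h2, h1⟩
  · convert Set.finite_empty
    exact Set.eq_empty_of_forall_notMem fun x hx => hh ⟨x, hx⟩

variable [PointBase S]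

/-- If the kernel is proper, the morphism is. -/
theorem isProper_of_kernel [Subsingleton S] [Nonempty S] [IsLocallyNoetherian S]
    [LocallyOfFiniteType G.hom] [LocallyOfFiniteType H.hom] [QuasiCompact f.left]
    [IsProper (pullback.snd f.left (η[H] : 𝟙_ (Over S) ⟶ H).left)] : IsProper f.left := by
  have : LocallyOfFiniteType (f.left ≫ H.hom) := by rw [Over.w f]; infer_instance
  have : LocallyOfFiniteType f.left := locallyOfFiniteType_of_comp _ H.hom
  have : IsLocallyNoetherian H.left := LocallyOfFiniteType.isLocallyNoetherian H.hom
  have hcl := isClosed_range f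
  have hO := rel_universallyOpen f hcl
  have hC := rel_range_of_kernel f hO @UniversallyClosed inferInstance
  have hS := rel_range_of_kernel f hO @IsSeparated inferInstance
  have := universallyClosed_of_rel f hcl hC
  let i := (Scheme.IdealSheafData.vanishingIdeal
    (⟨_, hcl⟩ : TopologicalSpace.Closeds H.left)).subschemeι
  have hr : Set.range i = Set.range f.left := by
    rw [Scheme.IdealSheafData.range_subschemeι, Scheme.IdealSheafData.coe_support_vanishingIdeal]
    rfl
  have : Surjective (pullback.fst f.left i) := ⟨fun x => by
    obtain ⟨z, hz⟩ : f.left x ∈ Set.range i := (by rw [hr]; exact ⟨x, rfl⟩)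
    obtain ⟨w, h1, -⟩ := Scheme.Pullback.exists_preimage_pullback (f := f.left) (g := i) x z hz.symm
    exact ⟨w, h1⟩⟩
  have : IsSeparated (pullback.snd f.left i) := hS i fun y => hr.subset ⟨y, rfl⟩
  have : IsSeparated (pullback.fst f.left i ≫ f.left) := by
    rw [pullback.condition]; infer_instance
  have : IsSeparated f.left := isSeparated_of_comp (pullback.fst f.left i) f.left
  exact ⟨⟩

/-- A proper monomorphism criterion. -/
theorem isClosedImmersion_of_mono [Subsingleton S] [Nonempty S] [IsLocallyNoetherian S]
    [LocallyOfFiniteType G.hom] [LocallyOfFiniteType H.hom] [QuasiCompact f.left] [Mono f] :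
    IsClosedImmersion f.left := by
  let κ := (η[H] : 𝟙_ (Over S) ⟶ H).left
  have : IsSplitEpi (pullback.snd f.left κ) :=
    ⟨⟨⟨pullback.lift (η[G] : 𝟙_ (Over S) ⟶ G).left (𝟙 _)
      (by rw [← Over.comp_left, IsMonHom.one_hom, Category.id_comp]), pullback.lift_snd _ _ _⟩⟩⟩
  have : Mono f.left := inferInstance
  have : IsIso (pullback.snd f.left κ) := isIso_of_mono_of_isSplitEpi _
  have := isProper_of_kernel f
  exact (IsClosedImmersion.iff_isProper_and_mono _).2 ⟨‹_›, ‹_›⟩

end Groth.Agent.GrpField
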