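import Groth.Agent.GrpField.Dimension
import Groth.Agent.GrpField.FlatPoint
import Groth.Agent.GrpField.Kernel
import Mathlib.AlgebraicGeometry.Morphisms.QuasiFinite
import Mathlib.AlgebraicGeometry.Morphisms.Proper
import Mathlib.AlgebraicGeometry.ZariskisMainTheorem
import Mathlib.AlgebraicGeometry.Geometrically.Integral

/-!
# Surjective homomorphisms between groups of the same dimension
-/

universe u

open CategoryTheory CategoryTheory.Limits MonoidalCategory CartesianMonoidalCategory MonObj AlgebraicGeometry TopologicalSpace

namespace Groth.Agent.GrpField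

/-- Codimensions do not increase along flat morphisms. -/
theorem coheight_le_of_flat {X Y : Scheme.{u}} (f : X ⟶ Y) [Flat f] (x : X) :
    Order.coheight (f x) ≤ Order.coheight x := by
  suffices key : ∀ (n : ℕ) (x : X) (s : LTSeries Y), s.head = f x → s.length = n →
      (n : ℕ∞) ≤ Order.coheight x from
    Order.coheight_le fun s hs => key _ x s hs rfl
  intro n
  induction n with
  | zero => intro x s _ _; simp
  | succ n ih =>
    intro x s hs hn
    have hlt : f x < s.toFun ⟨1, by omega⟩ := by
      rw [← hs]
      exact s.strictMono (by simp [Fin.lt_def])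
    obtain ⟨x', hx', hfx'⟩ := Flat.generalizingMap (f := f) (show s.toFun ⟨1, by omega⟩ ⤳ f x from hlt.le)
    have h1 := ih x' (s.drop ⟨1, by omega⟩) (by rw [RelSeries.head_drop]; exact hfx'.symm)
      (by simp [RelSeries.drop]; omega)
    have hlt' : x < x' := lt_of_specializes hx' fun he => hlt.ne (by rw [← hfx', he])
    calc ((n + 1 : ℕ) : ℕ∞) = (n : ℕ∞) + 1 := by push_cast; rfl
      _ ≤ Order.coheight x' + 1 := by gcongr
      _ ≤ Order.coheight x := Order.coheight_add_one_le hlt'

variable {k : Type u} [Field k] {X Y : Over (Spec (CommRingCat.of k))} [GrpObj X] [GrpObj Y]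
  (f : X ⟶ Y) [IsMonHom f]

omit [GrpObj X] [GrpObj Y] [IsMonHom f] in
/-- Fibres over closed points of flat morphisms between spaces of the same dimension are finite. -/
theorem finite_fibre_of_flat [JacobsonSpace X.left] [NoetherianSpace X.left] [IsLocallyNoetherian X.left]
    [Flat f.left] {e : Y.left} (he : IsClosed ({e} : Set Y.left))
    (h : ∀ z : X.left, IsClosed ({z} : Set X.left) → Order.coheight z = Order.coheight e) :
    (f.left ⁻¹' {e}).Finite := by
  have hF : IsClosed (f.left ⁻¹' {e}) := he.preimage f.left.continuous
  have hpt : ∀ a ∈ f.left ⁻¹' {e}, IsClosed ({a} : Set X.left) := by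
    intro a ha
    obtain ⟨z, hz, hzc⟩ := nonempty_inter_closedPoints (Z := closure ({a} : Set X.left))
      ⟨a, subset_closure rfl⟩ isClosed_closure.isLocallyClosed
    by_cases haz : a = z
    · exact haz ▸ hzc
    · exfalso
      have hlt : z < a := lt_of_specializes (specializes_iff_mem_closure.2 hz) haz
      have h1 : Order.coheight a + 1 ≤ Order.coheight z := Order.coheight_add_one_le hlt
      have h2 := coheight_le_of_flat f.left a
      rw [show f.left a = e from ha, ← h z hzc] at h2
      have hfin : Order.coheight z ≠ ⊤ := by
        intro ht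
        have := ringKrullDim_stalk_eq_coheight z
        rw [ht] at this
        exact (ringKrullDim_lt_top (R := X.left.presheaf.stalk z)).ne this
      exact hfin (le_antisymm le_top (by
        by_contra hne
        push Not at hne
        obtain ⟨n, hn⟩ := ENat.ne_top_iff_exists.1 hne.ne
        rw [← hn] at h1 h2
        have h3 : (n : ℕ∞) + 1 ≤ n := le_trans (by gcongr) h1
        exact absurd h3 (by norm_cast; omega)))
  obtain ⟨S, hS, hSc, hSi, hSU⟩ := NoetherianSpace.exists_finite_set_isClosed_irreducible hF
  rw [hSU]
  refine hS.sUnion fun t ht => ?_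
  obtain ⟨a, ha⟩ : ∃ a, IsGenericPoint a t :=
    ⟨_, (hSi t ht).isGenericPoint_genericPoint (hSc t ht)⟩
  have hmem : a ∈ f.left ⁻¹' {e} := hSU ▸ Set.mem_sUnion_of_mem ha.mem ht
  rw [← ha.def, (hpt a hmem).closure_eq]
  exact Set.finite_singleton a

/-- A surjective homomorphism of integral groups is flat. -/
theorem flat_of_surjective [IsIntegral X.left] [IsIntegral Y.left] [Surjective f.left] : Flat f.left := by
  have : Subsingleton (Spec (CommRingCat.of k)) := inferInstanceAs (Subsingleton (PrimeSpectrum k))
  have hgen : f.left (genericPoint X.left) = genericPoint Y.left :=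
    ((genericPoint_spec X.left).image f.left.continuous).eq (by
      rw [Set.image_univ, f.left.surjective.range_eq, closure_univ]
      exact genericPoint_spec Y.left)
  exact flat_of_flat_stalkMap f (x := genericPoint X.left) (by
    refine RingHom.Flat.of_isField ?_ _
    have hF : ∀ y : Y.left, y = genericPoint Y.left → IsField (Y.left.presheaf.stalk y) := by
      rintro y rfl
      exact Field.toIsField Y.left.functionField
    exact hF _ hgen)

omit [GrpObj X] [IsMonHom f] in
/-- The unit of a separated group is a closed immersion. -/
theorem isClosedImmersion_unit [IsSeparated Y.hom] :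
    IsClosedImmersion (η[Y] : 𝟙_ (Over (Spec (CommRingCat.of k))) ⟶ Y).left := by
  have : IsClosedImmersion ((η[Y] : 𝟙_ (Over (Spec (CommRingCat.of k))) ⟶ Y).left ≫ Y.hom) := by
    rw [Over.w]; exact inferInstanceAs (IsClosedImmersion (𝟙 _))
  exact IsClosedImmersion.of_comp _ Y.hom

omit [GrpObj X] [IsMonHom f] in
theorem isClosed_unit [IsSeparated Y.hom] :
    IsClosed ({η[Y].left (IsLocalRing.closedPoint k)} : Set Y.left) := by
  have := isClosedImmersion_unit (Y := Y)
  have h := (η[Y] : 𝟙_ (Over (Spec (CommRingCat.of k))) ⟶ Y).left.isClosedEmbedding.isClosedMap.isClosed_range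
  convert h
  ext y
  exact ⟨fun h => ⟨IsLocalRing.closedPoint k, h.symm⟩, fun ⟨t, ht⟩ => by
    rw [Set.mem_singleton_iff, ← ht, show t = IsLocalRing.closedPoint k from
      Subsingleton.elim (α := PrimeSpectrum k) _ _]⟩

/-- A surjective homomorphism of integral proper groups of the same dimension is finite and flat. -/
theorem isFinite_flat [IsProper X.hom] [IsIntegral X.left] [IsProper Y.hom] [IsIntegral Y.left]
    [Surjective f.left]
    (hdim : topologicalKrullDim X.left = topologicalKrullDim Y.left) : IsFinite f.left ∧ Flat f.left := by
  have : IsLocallyNoetherian X.left := LocallyOfFiniteType.isLocallyNoetherian X.hom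
  have : CompactSpace X.left := HasAffineProperty.iff_of_isAffine.mp (inferInstance : QuasiCompact X.hom)
  have : IsNoetherian X.left := {}
  have : JacobsonSpace X.left := LocallyOfFiniteType.jacobsonSpace X.hom
  have hproper : IsProper f.left := by
    have : IsProper (f.left ≫ Y.hom) := by rw [Over.w f]; infer_instance
    exact IsProper.of_comp f.left Y.hom
  have hflat : Flat f.left := flat_of_surjective f
  refine ⟨?_, hflat⟩
  have hec := isClosed_unit (Y := Y)
  have hK := finite_fibre_of_flat f hec fun z hz => by
    apply WithBot.coe_injective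
    rw [coheight_eq_topologicalKrullDim X hz, coheight_eq_topologicalKrullDim Y hec, hdim]
  let κ := (η[Y] : 𝟙_ (Over (Spec (CommRingCat.of k))) ⟶ Y).left
  have hlqf : LocallyQuasiFinite (pullback.snd f.left κ) := by
    refine .of_finite_preimage_singleton _ fun x => ?_
    have hinj : Function.Injective (pullback.fst f.left κ) := by
      have : IsClosedImmersion κ := isClosedImmersion_unit
      exact (pullback.fst f.left κ).isEmbedding.injective
    refine (hK.preimage hinj.injOn).subset fun w _ => ?_
    show f.left (pullback.fst f.left κ w) = η[Y].left (IsLocalRing.closedPoint k)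
    rw [← Scheme.Hom.comp_apply, pullback.condition, Scheme.Hom.comp_apply,
      show pullback.snd f.left κ w = IsLocalRing.closedPoint k from
        Subsingleton.elim (α := PrimeSpectrum k) _ _]
  have : LocallyQuasiFinite f.left :=
    .of_finite_preimage_singleton _ fun y => finite_preimage_singleton f hlqf y
  exact IsFinite.of_isProper_of_locallyQuasiFinite f.left

/-- A finite surjective homomorphism of integral groups preserves the dimension. -/
theorem dim_eq_of_isFinite [LocallyOfFiniteType X.hom] [LocallyOfFiniteType Y.hom] [IsIntegral X.left]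
    [IsIntegral Y.left] [IsFinite f.left] [Surjective f.left] :
    topologicalKrullDim X.left = topologicalKrullDim Y.left := by
  have : Flat f.left := flat_of_surjective f
  have : JacobsonSpace X.left := LocallyOfFiniteType.jacobsonSpace X.hom
  obtain ⟨z, -, hz⟩ := nonempty_inter_closedPoints (Z := (Set.univ : Set X.left)) Set.univ_nonempty
    isOpen_univ.isLocallyClosed
  have hfz : IsClosed ({f.left z} : Set Y.left) := Set.image_singleton ▸ f.left.isClosedMap _ hz
  rw [← coheight_eq_topologicalKrullDim X hz, ← coheight_eq_topologicalKrullDim Y hfz,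
    coheight_eq_of_flat_isIntegralHom f.left]

/-- A finite homomorphism between integral groups of the same dimension is surjective. -/
theorem surjective_of_isFinite [LocallyOfFiniteType X.hom] [LocallyOfFiniteType Y.hom] [IsIntegral X.left]
    [IsIntegral Y.left] [IsFinite f.left]
    (hdim : topologicalKrullDim X.left = topologicalKrullDim Y.left) : Surjective f.left := by
  have : JacobsonSpace Y.left := LocallyOfFiniteType.jacobsonSpace Y.hom
  obtain ⟨w, -, hw⟩ := nonempty_inter_closedPoints (Z := (Set.univ : Set Y.left)) Set.univ_nonempty
    isOpen_univ.isLocallyClosed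
  set ξ := genericPoint X.left
  by_cases hξ : f.left ξ = genericPoint Y.left
  · refine ⟨fun y => ?_⟩
    have hcl : IsClosed (Set.range f.left) := f.left.isClosedMap.isClosed_range
    exact hcl.stableUnderSpecialization (genericPoint_specializes y) ⟨ξ, hξ⟩
  · exfalso
    have hX : topologicalKrullDim X.left = Order.krullDim X.left :=
      Order.krullDim_eq_of_orderIso (irreducibleSetEquivPoints (α := X.left))
    have hY : topologicalKrullDim Y.left = Order.krullDim Y.left :=
      Order.krullDim_eq_of_orderIso (irreducibleSetEquivPoints (α := Y.left))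
    have hsm : StrictMono f.left := fun a b hab =>
      lt_of_specializes (hab.le.map f.left.continuous) fun he =>
        hab.ne (eq_of_specializes_of_isIntegralHom f.left hab.le he).symm
    have h1 : Order.krullDim X.left ≤ (Order.height (f.left ξ) : WithBot ℕ∞) := by
      rw [Order.krullDim_eq_iSup_height]
      refine iSup_le fun x => WithBot.coe_le_coe.2 ?_
      exact (Order.height_mono (show x ≤ ξ from genericPoint_specializes x)).trans
        (Order.height_le_height_apply_of_strictMono f.left hsm ξ)
    have h2 : Order.height (f.left ξ) + 1 ≤ Order.height (genericPoint Y.left) :=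
      Order.height_add_one_le (lt_of_specializes (genericPoint_specializes _) (Ne.symm hξ))
    have h3 := h1.trans_eq' (hdim.symm.trans hX).symm
    rw [hY] at h3
    have h4 := (Order.height_le_krullDim (genericPoint Y.left)).trans h3
    have hfin : topologicalKrullDim Y.left ≠ ⊤ := by
      rw [← coheight_eq_topologicalKrullDim Y hw]
      intro ht
      have : IsLocallyNoetherian Y.left := LocallyOfFiniteType.isLocallyNoetherian Y.hom
      have h' := ringKrullDim_stalk_eq_coheight w
      rw [ht] at h'
      exact (ringKrullDim_lt_top (R := Y.left.presheaf.stalk w)).ne h' 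
    have h5 : Order.height (f.left ξ) + 1 ≤ Order.height (f.left ξ) := h2.trans (WithBot.coe_le_coe.1 h4)
    obtain ⟨n, hn⟩ : ∃ n : ℕ, (n : ℕ∞) = Order.height (f.left ξ) := ENat.ne_top_iff_exists.1 fun ht => hfin (by
      rw [hY]
      exact top_le_iff.1 (le_trans (le_of_eq (by rw [ht]; rfl)) (Order.height_le_krullDim (f.left ξ))))
    rw [← hn] at h5
    norm_cast at h5
    omega

end Groth.Agent.GrpField
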