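import Groth.Agent.GrpField.AbelianField
import Mathlib.AlgebraicGeometry.Fiber

/-!
# Homomorphisms on the fibres
-/

universe u

open CategoryTheory CategoryTheory.Limits MonoidalCategory CartesianMonoidalCategory MonObj AlgebraicGeometry TopologicalSpace

noncomputable section

namespace Groth.Agent.GrpField

variable {S : Scheme.{u}}

/-- The fibre of a group over a point. -/
abbrev fib (A : Over S) (s : S) : Over (Spec (CommRingCat.of (S.residueField s))) :=
  (Over.pullback (S.fromSpecResidueField s)).obj A

open scoped CategoryTheory.Obj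

/-- The group structure of a fibre. -/
abbrev fibGrp (A : Over S) [GrpObj A] (s : S) : GrpObj (fib A s) :=
  Functor.grpObjObj (F := Over.pullback (S.fromSpecResidueField s))

variable {A B : Over S} (f : A ⟶ B) (s : S)

/-- The map induced on fibres. -/
abbrev fibHom : fib A s ⟶ fib B s := (Over.pullback (S.fromSpecResidueField s)).map f

instance isMonHom_fibHom [GrpObj A] [GrpObj B] [IsMonHom f] : IsMonHom (fibHom f s) :=
  inferInstanceAs (IsMonHom ((Over.pullback (S.fromSpecResidueField s)).map f))

theorem fibHom_fst : (fibHom f s).left ≫ pullback.fst B.hom (S.fromSpecResidueField s) =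
    pullback.fst A.hom (S.fromSpecResidueField s) ≫ f.left := by
  exact pullback.lift_fst _ _ _

/-- The square comparing a map with its fibre. -/
theorem isPullback_fibHom : IsPullback (pullback.fst A.hom (S.fromSpecResidueField s)) (fibHom f s).left
    f.left (pullback.fst B.hom (S.fromSpecResidueField s)) := by
  refine IsPullback.of_bot ?_ (fibHom_fst f s).symm
    (IsPullback.of_hasPullback B.hom (S.fromSpecResidueField s))
  have h : (fibHom f s).left ≫ pullback.snd B.hom (S.fromSpecResidueField s) =
      pullback.snd A.hom (S.fromSpecResidueField s) := Over.w (fibHom f s)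
  rw [h, Over.w f]
  exact IsPullback.of_hasPullback A.hom (S.fromSpecResidueField s)

theorem surjective_iff_fibHom :
    Surjective f.left ↔ ∀ s, Surjective (fibHom f s).left := by
  refine ⟨fun h s => MorphismProperty.of_isPullback (isPullback_fibHom f s) h, fun h => ⟨fun b => ?_⟩⟩
  obtain ⟨w, hw⟩ : b ∈ Set.range (pullback.fst B.hom (S.fromSpecResidueField (B.hom b))) := by
    rw [Scheme.Pullback.range_fst, Scheme.range_fromSpecResidueField]
    exact rfl
  obtain ⟨v, hv⟩ := (h (B.hom b)).surj w
  exact ⟨pullback.fst A.hom _ v, by
    rw [← Scheme.Hom.comp_apply, ← fibHom_fst, Scheme.Hom.comp_apply, hv, hw]⟩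

theorem locallyQuasiFinite_iff_fibHom [LocallyOfFiniteType f.left] [QuasiCompact f.left] :
    LocallyQuasiFinite f.left ↔ ∀ s, LocallyQuasiFinite (fibHom f s).left := by
  refine ⟨fun h s => MorphismProperty.of_isPullback (isPullback_fibHom f s) h,
    fun h => .of_finite_preimage_singleton _ fun b => ?_⟩
  by_cases hb : (f.left ⁻¹' {b}).Nonempty
  swap
  · rw [Set.not_nonempty_iff_eq_empty.1 hb]; exact Set.finite_empty
  obtain ⟨w, hw⟩ : b ∈ Set.range (pullback.fst B.hom (S.fromSpecResidueField (B.hom b))) := by
    rw [Scheme.Pullback.range_fst, Scheme.range_fromSpecResidueField]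
    exact rfl
  have : LocallyQuasiFinite (fibHom f (B.hom b)).left := h _
  have : LocallyOfFiniteType (fibHom f (B.hom b)).left :=
    MorphismProperty.of_isPullback (isPullback_fibHom f (B.hom b)) ‹_›
  have : QuasiCompact (fibHom f (B.hom b)).left :=
    MorphismProperty.of_isPullback (isPullback_fibHom f (B.hom b)) ‹_›
  refine (((fibHom f (B.hom b)).left.finite_preimage_singleton w).image
    (pullback.fst A.hom (S.fromSpecResidueField (B.hom b)))).subset fun a ha => ?_
  obtain ⟨v, h1, h2⟩ := Scheme.Pullback.exists_preimage_pullback (f := f.left)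
    (g := pullback.fst B.hom (S.fromSpecResidueField (B.hom b))) a w (by rw [hw]; exact ha)
  let sq := isPullback_fibHom f (B.hom b)
  refine ⟨sq.isoPullback.inv v, ?_, ?_⟩
  · rw [Set.mem_preimage, Set.mem_singleton_iff]
    erw [← Scheme.Hom.comp_apply, sq.isoPullback_inv_snd]
    exact h2
  · erw [← Scheme.Hom.comp_apply, sq.isoPullback_inv_fst]
    exact h1

theorem isIntegral_fib (A : Over S) [GrpObj A] [Smooth A.hom] [GeometricallyConnected A.hom] (s : S) :
    IsIntegral (fib A s).left := by
  have : Smooth (fib A s).hom := inferInstanceAs (Smooth (pullback.snd A.hom (S.fromSpecResidueField s)))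
  have : GeometricallyConnected (fib A s).hom :=
    inferInstanceAs (GeometricallyConnected (pullback.snd A.hom (S.fromSpecResidueField s)))
  exact isIntegral_of_smooth_connected (fib A s)

end Groth.Agent.GrpField
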