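import Groth.Agent.GrpField.Irreducible
import Groth.Agent.Unibranch.FibreChains
import Mathlib.AlgebraicGeometry.Properties
import Mathlib.AlgebraicGeometry.Morphisms.UniversallyOpen
import Mathlib.AlgebraicGeometry.Morphisms.Integral
import Mathlib.RingTheory.Ideal.GoingUp

/-!
# Dimension of group schemes locally of finite type over a field
-/

universe u

open CategoryTheory CategoryTheory.Limits MonoidalCategory CartesianMonoidalCategory MonObj AlgebraicGeometry TopologicalSpace

namespace Groth.Agent.GrpField

/-- The fibres of an integral morphism have no specialisations. -/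
theorem eq_of_specializes_of_isIntegralHom {X Y : Scheme.{u}} (f : X ⟶ Y) [IsIntegralHom f] {a b : X}
    (h : a ⤳ b) (he : f a = f b) : a = b := by
  obtain ⟨V, hV, hbV, -⟩ := exists_isAffineOpen_mem_and_subset (X := Y) (x := f b) (U := ⊤) trivial
  have hU : IsAffineOpen (f ⁻¹ᵁ V) := hV.preimage f
  have hb : b ∈ f ⁻¹ᵁ V := hbV
  have ha : a ∈ f ⁻¹ᵁ V := h.mem_open (f ⁻¹ᵁ V).2 hb
  have hint : (f.appLE V (f ⁻¹ᵁ V) le_rfl).hom.IsIntegral := by
    rw [← f.app_eq_appLE]; exact f.isIntegral_app V hV
  let p := hU.primeIdealOf ⟨a, ha⟩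
  let q := hU.primeIdealOf ⟨b, hb⟩
  have hpq : p.asIdeal ≤ q.asIdeal := (Groth.Agent.Unibranch.primeIdealOf_le_iff hU ha hb).2 h
  have hc : PrimeSpectrum.comap (f.appLE V (f ⁻¹ᵁ V) le_rfl).hom p =
      PrimeSpectrum.comap (f.appLE V (f ⁻¹ᵁ V) le_rfl).hom q := by
    apply hV.fromSpec.isOpenEmbedding.injective
    rw [Groth.Agent.Unibranch.fromSpec_comap_appLE f hV hU le_rfl,
      Groth.Agent.Unibranch.fromSpec_comap_appLE f hV hU le_rfl, hU.fromSpec_primeIdealOf,
      hU.fromSpec_primeIdealOf]
    exact he
  let := (f.appLE V (f ⁻¹ᵁ V) le_rfl).hom.toAlgebra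
  have heq : p.asIdeal = q.asIdeal := by
    by_contra hne
    obtain ⟨x, hxq, hxp⟩ := Set.exists_of_ssubset (lt_of_le_of_ne (SetLike.coe_subset_coe.2 hpq) fun h => hne (SetLike.coe_injective h))
    exact (Ideal.comap_lt_comap_of_integral_mem_sdiff hpq ⟨hxq, hxp⟩ (hint x)).ne
      (congrArg PrimeSpectrum.asIdeal hc)
  have : p = q := PrimeSpectrum.ext heq
  have := congrArg hU.fromSpec this
  rwa [hU.fromSpec_primeIdealOf, hU.fromSpec_primeIdealOf] at this

/-- A strict inequality for the order of a scheme. -/
theorem lt_of_specializes {X : Scheme.{u}} {a b : X} (h : b ⤳ a) (hne : b ≠ a) : a < b :=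
  ⟨h, fun h' => hne (h.antisymm h').eq⟩

/-- Along a flat integral morphism the codimension of points is preserved. -/
theorem coheight_eq_of_flat_isIntegralHom {X Y : Scheme.{u}} (f : X ⟶ Y) [Flat f] [IsIntegralHom f]
    (x : X) : Order.coheight x = Order.coheight (f x) := by
  refine le_antisymm ?_ ?_
  · refine Order.coheight_le_coheight_apply_of_strictMono f ?_ x
    intro a b hab
    exact lt_of_specializes (hab.le.map f.continuous) fun he =>
      hab.ne (eq_of_specializes_of_isIntegralHom f hab.le he).symm
  · suffices key : ∀ (n : ℕ) (x : X) (s : LTSeries Y), s.head = f x → s.length = n →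
        (n : ℕ∞) ≤ Order.coheight x from
      Order.coheight_le fun s hs => key _ x s hs rfl
    intro n
    induction n with
    | zero => intro x s _ _; simp
    | succ n ih =>
      intro x s hs hn
      have hlt : f x < s.toFun ⟨1, by omega⟩ := by
        rw [← hs]
        exact s.strictMono (by simp [Fin.lt_def])
      obtain ⟨x', hx', hfx'⟩ := Flat.generalizingMap (f := f) (show s.toFun ⟨1, by omega⟩ ⤳ f x from hlt.le)
      have h1 := ih x' (s.drop ⟨1, by omega⟩) (by rw [RelSeries.head_drop]; exact hfx'.symm)
        (by simp [RelSeries.drop]; omega)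
      have hlt' : x < x' := lt_of_specializes hx' fun he => hlt.ne (by rw [← hfx', he])
      calc ((n + 1 : ℕ) : ℕ∞) = (n : ℕ∞) + 1 := by push_cast; rfl
        _ ≤ Order.coheight x' + 1 := by gcongr
        _ ≤ Order.coheight x := Order.coheight_add_one_le hlt'

variable {K : Type u} [Field K]

/-- All closed points of a group scheme over an algebraically closed field have the same
codimension. -/
theorem coheight_eq_of_isAlgClosed [IsAlgClosed K] (G : Over (Spec (CommRingCat.of K))) [GrpObj G]
    [LocallyOfFiniteType G.hom] {x y : G.left} (hx : IsClosed ({x} : Set G.left))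
    (hy : IsClosed ({y} : Set G.left)) : Order.coheight x = Order.coheight y := by
  let pt : ∀ x : G.left, IsClosed ({x} : Set G.left) → (𝟙_ (Over (Spec (CommRingCat.of K))) ⟶ G) :=
    fun x hx => Over.homMk (pointOfClosedPoint G.hom x hx) (pointOfClosedPoint_comp G.hom x hx)
  let a := pt x hx
  let b := pt y hy
  let e := homeo (transl (a⁻¹ * b))
  have he : e x = y := by
    obtain ⟨t⟩ : Nonempty (𝟙_ (Over (Spec (CommRingCat.of K)))).left :=
      inferInstanceAs (Nonempty (PrimeSpectrum K))
    have h1 : a ≫ (transl (a⁻¹ * b)).hom = b := by simp [transl, MonObj.comp_mul]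
    have h2 := congrArg (fun k => k.left t) h1
    simp only [Over.comp_left, Scheme.Hom.comp_apply] at h2
    change (transl (a⁻¹ * b)).hom.left x = y
    rwa [show a.left t = x from pointOfClosedPoint_apply G.hom x hx t,
      show b.left t = y from pointOfClosedPoint_apply G.hom y hy t] at h2
  rw [← he]
  exact (e.isOpenEmbedding.coheight_eq (x := x)).symm

attribute [local instance] Over.grpObjMkPullbackSnd

/-- All closed points of a group scheme over a field have the same codimension. -/
theorem coheight_eq_of_isClosed (G : Over (Spec (CommRingCat.of K))) [GrpObj G]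
    [LocallyOfFiniteType G.hom] {x y : G.left} (hx : IsClosed ({x} : Set G.left))
    (hy : IsClosed ({y} : Set G.left)) : Order.coheight x = Order.coheight y := by
  let K' := AlgebraicClosure K
  let g := Spec.map (CommRingCat.ofHom (algebraMap K K'))
  let G' : Over (Spec (CommRingCat.of K')) := Over.mk (pullback.snd G.hom g)
  have : GrpObj (Over.mk G.hom) := inferInstanceAs (GrpObj G)
  have : LocallyOfFiniteType G'.hom := inferInstanceAs (LocallyOfFiniteType (pullback.snd G.hom g))
  have : Subsingleton (Spec (CommRingCat.of K)) := inferInstanceAs (Subsingleton (PrimeSpectrum K))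
  have : IsIntegralHom g := IsIntegralHom.SpecMap_iff.2 Algebra.IsIntegral.isIntegral
  have : Flat g := Flat.SpecMap_iff.2 (RingHom.Flat.of_isField (Field.toIsField K) _)
  have : Surjective g := PointBase.surj K' g
  let π : G'.left ⟶ G.left := pullback.fst G.hom g
  have : JacobsonSpace G'.left := LocallyOfFiniteType.jacobsonSpace G'.hom
  have hlift : ∀ z : G.left, IsClosed ({z} : Set G.left) → ∃ z' : G'.left,
      IsClosed ({z'} : Set G'.left) ∧ π z' = z := by
    intro z hz
    obtain ⟨w, hw⟩ := π.surjective z
    obtain ⟨z', hz', hz'c⟩ := nonempty_inter_closedPoints (Z := π ⁻¹' {z}) ⟨w, hw⟩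
      (hz.preimage π.continuous).isLocallyClosed
    exact ⟨z', hz'c, hz'⟩
  obtain ⟨x', hx', rfl⟩ := hlift x hx
  obtain ⟨y', hy', rfl⟩ := hlift y hy
  rw [← coheight_eq_of_flat_isIntegralHom π, ← coheight_eq_of_flat_isIntegralHom π]
  exact coheight_eq_of_isAlgClosed G' hx' hy'

/-- The local dimension at a closed point is the dimension of the group. -/
theorem coheight_eq_topologicalKrullDim (G : Over (Spec (CommRingCat.of K))) [GrpObj G]
    [LocallyOfFiniteType G.hom] {g : G.left} (hg : IsClosed ({g} : Set G.left)) :
    (Order.coheight g : WithBot ℕ∞) = topologicalKrullDim G.left := by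
  have : JacobsonSpace G.left := LocallyOfFiniteType.jacobsonSpace G.hom
  have : Nonempty G.left := ⟨g⟩
  have h : topologicalKrullDim G.left = Order.krullDim G.left :=
    Order.krullDim_eq_of_orderIso (irreducibleSetEquivPoints (α := G.left))
  rw [h, Order.krullDim_eq_iSup_coheight]
  refine le_antisymm (le_iSup (fun x : G.left => (Order.coheight x : WithBot ℕ∞)) g) (iSup_le fun x => ?_)
  obtain ⟨z, hz, hzc⟩ := nonempty_inter_closedPoints (Z := closure ({x} : Set G.left))
    ⟨x, subset_closure rfl⟩ isClosed_closure.isLocallyClosed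
  refine WithBot.coe_le_coe.2 ((Order.coheight_anti (show z ≤ x from specializes_iff_mem_closure.2 hz)).trans ?_)
  exact (coheight_eq_of_isClosed G hzc hg).le

end Groth.Agent.GrpField

namespace Groth.Agent.GrpField

/-- A subset closed under generalisation at a point bounds the codimension of the point. -/
theorem coheight_le_topologicalKrullDim {X : Scheme.{u}} (A : Set X) (hA : IsLocallyClosed A) (z : X)
    (hz : ∀ y : X, y ⤳ z → y ∈ A) : (Order.coheight z : WithBot ℕ∞) ≤ topologicalKrullDim A := by
  have : QuasiSober A := by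
    obtain ⟨U, C, hU, hC, rfl⟩ := hA
    have : QuasiSober U := hU.isOpenEmbedding_subtypeVal.quasiSober
    have h : Topology.IsClosedEmbedding (fun x : ↥(U ∩ C) => (⟨x.1, x.2.1⟩ : U)) := by
      refine ⟨⟨Topology.IsInducing.subtypeVal.of_comp_iff.1 Topology.IsInducing.subtypeVal, ?_⟩, ?_⟩
      · exact fun a b h => Subtype.ext (congrArg (fun w : U => w.1) h)
      · convert hC.preimage (continuous_subtype_val (p := fun x => x ∈ U)) using 1
        ext ⟨w, hw⟩
        simp [hw]
    exact h.quasiSober
  letI : Preorder A := (specializationOrder A).toPreorder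
  rw [show topologicalKrullDim A = Order.krullDim A from
    Order.krullDim_eq_of_orderIso (irreducibleSetEquivPoints (α := A))]
  let z' : A := ⟨z, hz z specializes_rfl⟩
  refine le_trans (WithBot.coe_le_coe.2 ?_) (Order.coheight_le_krullDim z')
  refine Order.coheight_le fun s hs => ?_
  have hmem : ∀ i, s i ∈ A := fun i => hz _ (show z ≤ s i from hs ▸ s.monotone (Fin.zero_le i))
  let t : LTSeries A := ⟨s.length, fun i => ⟨s i, hmem i⟩, fun i => by
    have h : s i.castSucc < s i.succ := s.step i
    refine ⟨(subtype_specializes_iff _ _).2 h.le, fun h' => h.not_ge ((subtype_specializes_iff _ _).1 h')⟩⟩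
  exact @Order.length_le_coheight A _ z' t ((subtype_specializes_iff _ _).2 (show z ≤ s.head from hs.ge))

/-- Every irreducible component of a locally noetherian scheme contains a nonempty open. -/
theorem exists_open_subset_component (X : Scheme.{u}) [IsLocallyNoetherian X] {Z : Set X}
    (hZ : Z ∈ irreducibleComponents (X : Type u)) :
    ∃ W : Set X, IsOpen W ∧ W.Nonempty ∧ W ⊆ Z := by
  have hZc : IsClosed Z := isClosed_of_mem_irreducibleComponents Z hZ
  let ζ := IsIrreducible.genericPoint hZ.1
  have hζ : closure {ζ} = Z := by rw [IsIrreducible.genericPoint_closure_eq, hZc.closure_eq]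
  obtain ⟨V, hV, hζV, -⟩ := exists_isAffineOpen_mem_and_subset (X := X) (x := ζ) (U := ⊤) trivial
  have : IsNoetherianRing Γ(X, V) := IsLocallyNoetherian.component_noetherian ⟨V, hV⟩
  have : NoetherianSpace (Spec Γ(X, V)) := inferInstanceAs (NoetherianSpace (PrimeSpectrum _))
  obtain ⟨p, hp⟩ : ζ ∈ Set.range hV.fromSpec := hV.range_fromSpec.symm ▸ hζV
  obtain ⟨o, ho, hon, hoZ⟩ := NoetherianSpace.exists_isOpen_nonempty_subset_irreducibleComponent _
    (irreducibleComponent_mem_irreducibleComponents p)
  refine ⟨hV.fromSpec '' o, hV.fromSpec.isOpenEmbedding.isOpenMap o ho, hon.image _, ?_⟩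
  have hi : IsIrreducible (closure (hV.fromSpec '' irreducibleComponent p)) :=
    (isIrreducible_irreducibleComponent.image _ hV.fromSpec.continuous.continuousOn).closure
  have hle : Z ⊆ closure (hV.fromSpec '' irreducibleComponent p) := by
    rw [← hζ]
    exact closure_mono (Set.singleton_subset_iff.2 ⟨p, mem_irreducibleComponent, hp⟩)
  calc hV.fromSpec '' o ⊆ closure (hV.fromSpec '' irreducibleComponent p) :=
        (Set.image_mono hoZ).trans subset_closure
    _ ⊆ Z := hZ.2 hi hle

variable {K : Type u} [Field K]

/-- Group schemes over a field are equidimensional. -/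
theorem equidimensional (G : Over (Spec (CommRingCat.of K))) [GrpObj G] [LocallyOfFiniteType G.hom] :
    (∀ Z ∈ irreducibleComponents ↥G.left, topologicalKrullDim ↥Z = topologicalKrullDim ↥G.left) ∧
    (∀ (g : G.left) (U : Set G.left), IsOpen U → g ∈ U →
      topologicalKrullDim U = topologicalKrullDim ↥G.left) := by
  have : JacobsonSpace G.left := LocallyOfFiniteType.jacobsonSpace G.hom
  have : IsLocallyNoetherian G.left := LocallyOfFiniteType.isLocallyNoetherian G.hom
  have key : ∀ (A W : Set G.left), IsLocallyClosed A → IsOpen W → W.Nonempty → W ⊆ A →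
      topologicalKrullDim A = topologicalKrullDim ↥G.left := by
    intro A W hA hW hne hWA
    obtain ⟨z, hz, hzc⟩ := nonempty_inter_closedPoints hne hW.isLocallyClosed
    refine le_antisymm (topologicalKrullDim_subspace_le _ _) ?_
    rw [← coheight_eq_topologicalKrullDim G hzc]
    exact coheight_le_topologicalKrullDim A hA z fun y hy => hWA (hy.mem_open hW hz)
  refine ⟨fun Z hZ => ?_, fun g U hU hg => key U U hU.isLocallyClosed hU ⟨g, hg⟩ subset_rfl⟩
  obtain ⟨W, hW, hne, hWZ⟩ := exists_open_subset_component _ hZ
  exact key Z W (isClosed_of_mem_irreducibleComponents Z hZ).isLocallyClosed hW hne hWZ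

end Groth.Agent.GrpField
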