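import Groth.Agent.GrpField.Range
import Mathlib.AlgebraicGeometry.Morphisms.SchemeTheoreticallyDominant
import Mathlib.AlgebraicGeometry.Morphisms.ClosedImmersion

/-!
# The scheme-theoretic image of a homomorphism of group schemes over a field
-/

universe u

open CategoryTheory CategoryTheory.Limits MonoidalCategory CartesianMonoidalCategory MonObj GrpObj AlgebraicGeometry

namespace Groth.Agent.GrpField.SchImg

variable {k : Type u} [Field k]

local notation "S" => Spec (CommRingCat.of k)

theorem mono_of_isClosedImmersion {X Y : Over (Spec (CommRingCat.of k))} (i : X ⟶ Y)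
    [IsClosedImmersion i.left] : Mono i :=
  Over.mono_of_mono_left i

/-- A morphism factors through a closed immersion if it does so after a schematically dominant
morphism. -/
theorem exists_factor {P T K G : Over (Spec (CommRingCat.of k))} (d : P ⟶ T)
    [IsSchemeTheoreticallyDominant d.left] (i : K ⟶ G) [IsClosedImmersion i.left] (t : T ⟶ G)
    (s : P ⟶ K) (h : d ≫ t = s ≫ i) : ∃ l : T ⟶ K, l ≫ i = t := by
  have h' : d.left ≫ t.left = s.left ≫ i.left := congr(($h).left)
  have hk : i.left.ker ≤ t.left.ker := by
    have h1 : (d.left ≫ t.left).ker = t.left.ker := by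
      rw [Scheme.Hom.ker_comp, d.left.ker_eq_bot, Scheme.IdealSheafData.map_bot]
    rw [← h1, h']
    exact Scheme.Hom.le_ker_comp _ _
  refine ⟨Over.homMk (IsClosedImmersion.lift i.left t.left hk) ?_, ?_⟩
  · rw [← Over.w i, IsClosedImmersion.lift_fac_assoc, Over.w]
  · ext1
    exact IsClosedImmersion.lift_fac _ _ _

theorem flat_hom (X : Over (Spec (CommRingCat.of k))) : Flat X.hom := inferInstance

theorem isPullback_whiskerRight {X X' : Over (Spec (CommRingCat.of k))} (g : X ⟶ X')
    (Y : Over (Spec (CommRingCat.of k))) :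
    IsPullback (fst X Y).left (g ▷ Y).left g.left (fst X' Y).left := by
  have e : (g ▷ Y).left ≫ (snd X' Y).left = (snd X Y).left :=
    congr($(whiskerRight_snd g Y).left)
  have e' : (g ▷ Y).left ≫ (fst X' Y).left = (fst X Y).left ≫ g.left :=
    congr($(whiskerRight_fst g Y).left)
  have big : IsPullback (snd X Y).left (fst X Y).left Y.hom X.hom :=
    (IsPullback.of_hasPullback X.hom Y.hom).flip
  have small : IsPullback (snd X' Y).left (fst X' Y).left Y.hom X'.hom :=
    (IsPullback.of_hasPullback X'.hom Y.hom).flip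
  have : IsPullback (g ▷ Y).left (fst X Y).left (fst X' Y).left g.left := by
    refine IsPullback.of_right ?_ e' small
    rw [e, Over.w g]
    exact big
  exact this.flip

theorem flat_fst (X Y : Over (Spec (CommRingCat.of k))) : Flat (fst X Y).left :=
  MorphismProperty.pullback_fst (P := @Flat) X.hom Y.hom (flat_hom Y)

theorem schDom_whiskerRight {X X' : Over (Spec (CommRingCat.of k))} (g : X ⟶ X')
    [IsSchemeTheoreticallyDominant g.left] [QuasiCompact g.left]
    (Y : Over (Spec (CommRingCat.of k))) :
    IsSchemeTheoreticallyDominant (g ▷ Y).left :=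
  have := flat_fst X' Y
  IsSchemeTheoreticallyDominant.of_isPullback (isPullback_whiskerRight g Y)

theorem schDom_tensor {X X' : Over (Spec (CommRingCat.of k))} (g : X ⟶ X')
    [IsSchemeTheoreticallyDominant g.left] [QuasiCompact g.left] :
    IsSchemeTheoreticallyDominant (g ⊗ₘ g).left := by
  rw [MonoidalCategory.tensorHom_def, Over.comp_left,
    show X' ◁ g = (β_ X' X).hom ≫ g ▷ X' ≫ (β_ X' X').inv by ext <;> simp, Over.comp_left,
    Over.comp_left]
  have := schDom_whiskerRight g X
  have := schDom_whiskerRight g X'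
  have : IsIso (β_ X' X).hom.left := (Over.forget _).map_isIso (β_ X' X).hom
  have : IsIso (β_ X' X').inv.left := (Over.forget _).map_isIso (β_ X' X').inv
  infer_instance

variable {H G K : Over (Spec (CommRingCat.of k))} [GrpObj H] [GrpObj G] (f : H ⟶ G) [IsMonHom f]
  (i : K ⟶ G) [IsClosedImmersion i.left] (g : H ⟶ K) (hgi : g ≫ i = f)

include hgi

theorem quasiCompact_factor [QuasiCompact f.left] : QuasiCompact g.left := by
  have : QuasiCompact (g.left ≫ i.left) := by rw [← Over.comp_left, hgi]; infer_instance
  exact QuasiCompact.of_comp g.left i.left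

theorem exists_unit : ∃ e : 𝟙_ (Over (Spec (CommRingCat.of k))) ⟶ K, e ≫ i = η[G] :=
  ⟨η[H] ≫ g, by rw [Category.assoc, hgi, IsMonHom.one_hom f]⟩

variable [QuasiCompact f.left] [IsSchemeTheoreticallyDominant g.left]

theorem exists_div {T : Over (Spec (CommRingCat.of k))} (k₁ k₂ : T ⟶ K) :
    ∃ k₃ : T ⟶ K, k₃ ≫ i = (k₁ ≫ i)⁻¹ * (k₂ ≫ i) := by
  have := quasiCompact_factor f i g hgi
  have := schDom_tensor g
  obtain ⟨l, hl⟩ := exists_factor (g ⊗ₘ g) i ((fst K K ≫ i)⁻¹ * (snd K K ≫ i))
    (((fst H H)⁻¹ * snd H H) ≫ g) (by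
      rw [MonObj.comp_mul, GrpObj.comp_inv, Category.assoc, hgi, MonObj.mul_comp, GrpObj.inv_comp,
        tensorHom_fst_assoc, tensorHom_snd_assoc, hgi])
  refine ⟨lift k₁ k₂ ≫ l, ?_⟩
  rw [Category.assoc, hl, MonObj.comp_mul, GrpObj.comp_inv, lift_fst_assoc, lift_snd_assoc]

theorem surjective_factor [LocallyOfFiniteType H.hom] [LocallyOfFiniteType G.hom] :
    Surjective g.left := by
  have := quasiCompact_factor f i g hgi
  have : IsLocallyNoetherian G.left := LocallyOfFiniteType.isLocallyNoetherian G.hom
  have : LocallyOfFiniteType (f.left ≫ G.hom) := by rw [Over.w]; infer_instance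
  have : LocallyOfFiniteType f.left := locallyOfFiniteType_of_comp f.left G.hom
  have : LocallyOfFinitePresentation f.left := inferInstance
  have hc := isClosed_range f
  have hc' : IsClosed (Set.range g.left) := by
    rw [← Set.preimage_image_eq (Set.range g.left) i.left.isClosedEmbedding.injective,
      ← Set.range_comp]
    have e : ⇑i.left ∘ ⇑g.left = ⇑f.left := by rw [← hgi]; rfl
    rw [e]
    exact hc.preimage i.left.continuous
  refine ⟨fun x => ?_⟩
  have hx := g.left.denseRange x
  rw [hc'.closure_eq] at hx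
  exact hx

theorem exists_grpObj : ∃ _ : GrpObj K, IsMonHom i ∧ IsMonHom g := by
  have := mono_of_isClosedImmersion i
  obtain ⟨e, he⟩ := exists_unit f i g hgi
  obtain ⟨n, hn⟩ := exists_div f i g hgi (𝟙 K) (toUnit K ≫ e)
  obtain ⟨m, hm⟩ := exists_div f i g hgi (fst K K ≫ n) (snd K K)
  simp only [Category.id_comp, Category.assoc, he] at hn
  rw [show toUnit K ≫ η[G] = 1 from rfl, _root_.mul_one] at hn
  simp only [Category.assoc, hn, GrpObj.comp_inv, _root_.inv_inv] at hm
  let hM : MonObj K :=
    { one := e
      mul := m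
      one_mul := by
        rw [← cancel_mono i, Category.assoc, hm, MonObj.comp_mul, whiskerRight_fst_assoc,
          whiskerRight_snd_assoc, he, show fst _ K ≫ η[G] = toUnit _ ≫ η[G] from
            congrArg (· ≫ η[G]) (toUnit_unique _ _), ← Hom.one_def, _root_.one_mul, leftUnitor_hom]
      mul_one := by
        rw [← cancel_mono i, Category.assoc, hm, MonObj.comp_mul, whiskerLeft_fst_assoc,
          whiskerLeft_snd_assoc, he, show snd K _ ≫ η[G] = toUnit _ ≫ η[G] from
            congrArg (· ≫ η[G]) (toUnit_unique _ _), ← Hom.one_def, _root_.mul_one, rightUnitor_hom]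
      mul_assoc := by
        simp only [← cancel_mono i, Category.assoc, hm, MonObj.comp_mul, whiskerRight_fst_assoc,
          whiskerRight_snd_assoc, whiskerLeft_fst_assoc, whiskerLeft_snd_assoc,
          associator_hom_fst_assoc, associator_hom_snd_fst_assoc, associator_hom_snd_snd_assoc,
          _root_.mul_assoc] }
  let hG : GrpObj K :=
    { hM with
      inv := n
      left_inv := by
        rw [← cancel_mono i, Category.assoc, show μ[K] = m from rfl, hm, MonObj.comp_mul,
          lift_fst_assoc, lift_snd_assoc, hn, Category.id_comp, inv_mul_cancel, Category.assoc,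
          show η[K] = e from rfl, he, Hom.one_def]
      right_inv := by
        rw [← cancel_mono i, Category.assoc, show μ[K] = m from rfl, hm, MonObj.comp_mul,
          lift_fst_assoc, lift_snd_assoc, hn, Category.id_comp, mul_inv_cancel, Category.assoc,
          show η[K] = e from rfl, he, Hom.one_def] }
  have hi : IsMonHom i :=
    { one_hom := he
      mul_hom := by
        rw [show μ[K] = m from rfl, hm, Hom.mul_def]
        congr 1 }
  refine ⟨hG, hi, ⟨?_, ?_⟩⟩
  · rw [← cancel_mono i, Category.assoc, hgi, IsMonHom.one_hom f, show η[K] = e from rfl, he]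
  · rw [← cancel_mono i, Category.assoc, Category.assoc, hgi, IsMonHom.mul_hom f,
      IsMonHom.mul_hom i, ← hgi, ← tensorHom_comp_tensorHom, Category.assoc]

end Groth.Agent.GrpField.SchImg

namespace Groth.Agent.GrpField.SchImg

theorem exists_grpObj_of_div {k : Type u} [Field k] {G K : Over (Spec (CommRingCat.of k))} [GrpObj G]
    (i : K ⟶ G) [IsClosedImmersion i.left]
    (he' : ∃ e : 𝟙_ (Over (Spec (CommRingCat.of k))) ⟶ K, e ≫ i = η[G])
    (hdiv : ∀ (T : Over (Spec (CommRingCat.of k))) (k₁ k₂ : T ⟶ K),
      ∃ k₃ : T ⟶ K, k₃ ≫ i = (k₁ ≫ i)⁻¹ * (k₂ ≫ i)) :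
    ∃ _ : GrpObj K, IsMonHom i := by
  have := mono_of_isClosedImmersion i
  obtain ⟨e, he⟩ := he'
  obtain ⟨n, hn⟩ := hdiv K (𝟙 K) (toUnit K ≫ e)
  obtain ⟨m, hm⟩ := hdiv _ (fst K K ≫ n) (snd K K)
  simp only [Category.id_comp, Category.assoc, he] at hn
  rw [show toUnit K ≫ η[G] = 1 from rfl, _root_.mul_one] at hn
  simp only [Category.assoc, hn, GrpObj.comp_inv, _root_.inv_inv] at hm
  let hM : MonObj K :=
    { one := e
      mul := m
      one_mul := by
        rw [← cancel_mono i, Category.assoc, hm, MonObj.comp_mul, whiskerRight_fst_assoc,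
          whiskerRight_snd_assoc, he, show fst _ K ≫ η[G] = toUnit _ ≫ η[G] from
            congrArg (· ≫ η[G]) (toUnit_unique _ _), ← Hom.one_def, _root_.one_mul, leftUnitor_hom]
      mul_one := by
        rw [← cancel_mono i, Category.assoc, hm, MonObj.comp_mul, whiskerLeft_fst_assoc,
          whiskerLeft_snd_assoc, he, show snd K _ ≫ η[G] = toUnit _ ≫ η[G] from
            congrArg (· ≫ η[G]) (toUnit_unique _ _), ← Hom.one_def, _root_.mul_one, rightUnitor_hom]
      mul_assoc := by
        simp only [← cancel_mono i, Category.assoc, hm, MonObj.comp_mul, whiskerRight_fst_assoc,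
          whiskerRight_snd_assoc, whiskerLeft_fst_assoc, whiskerLeft_snd_assoc,
          associator_hom_fst_assoc, associator_hom_snd_fst_assoc, associator_hom_snd_snd_assoc,
          _root_.mul_assoc] }
  let hG : GrpObj K :=
    { hM with
      inv := n
      left_inv := by
        rw [← cancel_mono i, Category.assoc, show μ[K] = m from rfl, hm, MonObj.comp_mul,
          lift_fst_assoc, lift_snd_assoc, hn, Category.id_comp, inv_mul_cancel, Category.assoc,
          show η[K] = e from rfl, he, Hom.one_def]
      right_inv := by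
        rw [← cancel_mono i, Category.assoc, show μ[K] = m from rfl, hm, MonObj.comp_mul,
          lift_fst_assoc, lift_snd_assoc, hn, Category.id_comp, mul_inv_cancel, Category.assoc,
          show η[K] = e from rfl, he, Hom.one_def] }
  have hi : IsMonHom i :=
    { one_hom := he
      mul_hom := by
        rw [show μ[K] = m from rfl, hm, Hom.mul_def]
        congr 1 }
  exact ⟨hG, hi⟩

end Groth.Agent.GrpField.SchImg
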