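import Groth.Agent.GrpField.SchImgSmooth
import Groth.Agent.GeomRedPull.Field
import Mathlib.AlgebraicGeometry.Morphisms.UniversallyOpen

/-!
# Schemes with a dense set of rational points, and closures of groups of rational points
-/

universe u

open CategoryTheory CategoryTheory.Limits MonoidalCategory CartesianMonoidalCategory MonObj GrpObj AlgebraicGeometry
open scoped TensorProduct

namespace Groth.Agent.GrpField.RatClosure

variable {k : Type u} [Field k]

theorem isReduced_tensor_of_points {A K : Type u} [CommRing A] [Algebra k A] [Field K] [Algebra k K]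
    {J : Type*} (ev : J → A →ₐ[k] k) (h : ∀ a, (∀ i, ev i a = 0) → a = 0) :
    _root_.IsReduced (A ⊗[k] K) := by
  classical
  refine ⟨fun z hz => ?_⟩
  let b := Module.Basis.ofVectorSpace k K
  let B := Algebra.TensorProduct.basis A b
  let σ := Algebra.TensorProduct.comm k A K
  apply B.repr.injective
  rw [map_zero]
  ext j
  rw [Finsupp.zero_apply]
  refine h _ fun i => ?_
  let φ := (Algebra.TensorProduct.lid k K).toAlgHom.comp
    (Algebra.TensorProduct.map (ev i) (AlgHom.id k K))
  have key : ∀ y : A ⊗[k] K, b.repr (φ y) j = ev i (B.repr y j) := by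
    intro y
    induction y using TensorProduct.induction_on with
    | zero => simp
    | tmul a l =>
      rw [show φ (a ⊗ₜ[k] l) = ev i a • l by simp [φ, Algebra.smul_def, mul_comm], map_smul,
        Finsupp.smul_apply, smul_eq_mul]
      simp [B, Algebra.TensorProduct.basis_repr_tmul, Finsupp.smul_apply, Algebra.smul_def, mul_comm]
    | add y y' hy hy' => simp [hy, hy']
  have := key z
  rwa [(hz.map φ).eq_zero, map_zero, Finsupp.zero_apply, eq_comm] at this

/-- A reduced scheme with dense rational points is geometrically reduced. -/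
theorem geometricallyReduced_of_dense {X : Scheme.{u}} [IsReduced X]
    (f : X ⟶ Spec (CommRingCat.of k)) (S : Set (Spec (CommRingCat.of k) ⟶ X))
    (hS : ∀ s ∈ S, s ≫ f = 𝟙 _)
    (hd : Dense ((fun s : Spec (CommRingCat.of k) ⟶ X => s (IsLocalRing.closedPoint k)) '' S)) :
    GeometricallyReduced f := by
  refine ⟨geometrically_iff_of_commRing.2 fun K _ _ Z fst snd hZ => ?_⟩
  let y := Spec.map (CommRingCat.ofHom (algebraMap k K))
  suffices IsReduced (pullback f y) from isReduced_of_isOpenImmersion hZ.isoPullback.hom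
  apply +allowSynthFailures @IsReduced.of_openCover
    (𝒰 := Scheme.Pullback.openCoverOfLeft X.affineCover f y)
  intro j
  let w := X.affineCover.f j
  let A := Γ(X.affineCover.X j, ⊤)
  let u := (X.affineCover.X j).isoSpec.inv ≫ w
  obtain ⟨φ, hφ⟩ := Spec.map_surjective (u ≫ f)
  let : Algebra k A := φ.hom.toAlgebra
  have : _root_.IsReduced A := by
    have : IsReduced (X.affineCover.X j) := isReduced_of_isOpenImmersion w
    infer_instance
  let T := {ev : A →ₐ[k] k // Spec.map (CommRingCat.ofHom ev.toRingHom) ≫ u ∈ S}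
  have : _root_.IsReduced (A ⊗[k] K) := by
    refine isReduced_tensor_of_points (fun e : T => e.1) fun a ha => ?_
    by_contra hne
    have hD : (PrimeSpectrum.basicOpen a : Set (PrimeSpectrum A)).Nonempty := by
      rw [Set.nonempty_iff_ne_empty]
      intro h0
      have : PrimeSpectrum.basicOpen a = ⊥ := SetLike.coe_injective (h0.trans rfl)
      exact hne ((PrimeSpectrum.basicOpen_eq_bot_iff a).1 this).eq_zero
    obtain ⟨_, ⟨s, hs, rfl⟩, q, hq, hsq'⟩ :=
      hd.exists_mem_open (u.isOpenEmbedding.isOpenMap _ (PrimeSpectrum.basicOpen a).2) (hD.image _)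
    have hsq := hsq'.symm
    have hr : Set.range s ⊆ Set.range u := by
      rintro _ ⟨z, rfl⟩
      rw [Subsingleton.elim z (IsLocalRing.closedPoint k)]
      exact ⟨q, hsq.symm⟩
    obtain ⟨ev, hev⟩ := Spec.map_surjective (IsOpenImmersion.lift u s hr)
    have hev' : φ ≫ ev = 𝟙 _ := Spec.map_injective (by
      rw [Spec.map_comp, hφ, Spec.map_id, hev, IsOpenImmersion.lift_fac_assoc]
      exact hS s hs)
    let e : A →ₐ[k] k := { toRingHom := ev.hom, commutes' := fun c => congr(($hev').hom c) }
    have he : Spec.map (CommRingCat.ofHom e.toRingHom) ≫ u = s := by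
      rw [show CommRingCat.ofHom e.toRingHom = ev from rfl, hev, IsOpenImmersion.lift_fac]
    have h0 : ev.hom a = 0 := ha ⟨e, by rw [he]; exact hs⟩
    have hqe : q = Spec.map ev (IsLocalRing.closedPoint k) := by
      apply u.isOpenEmbedding.injective
      rw [← Scheme.Hom.comp_apply, hev, IsOpenImmersion.lift_fac]
      exact hsq.symm
    apply hq
    rw [hqe]
    change ev.hom a ∈ (IsLocalRing.closedPoint k).asIdeal
    rw [h0]
    exact zero_mem _
  have e1 : u ≫ f = Spec.map (CommRingCat.ofHom (algebraMap k A)) := hφ.symm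
  have : IsReduced (pullback (u ≫ f) y) := isReduced_of_isOpenImmersion
    ((pullback.congrHom e1 (rfl : y = y)).hom ≫ (pullbackSpecIso k A K).hom)
  have hc : (w ≫ f) ≫ 𝟙 _ = (X.affineCover.X j).isoSpec.hom ≫ u ≫ f := by simp [u]
  let m := pullback.map (w ≫ f) y (u ≫ f) y (X.affineCover.X j).isoSpec.hom (𝟙 _) (𝟙 _) hc (by simp)
  have : IsIso m := pullback.map_isIso ..
  have : IsOpenImmersion m := IsOpenImmersion.of_isIso m
  exact @isReduced_of_isOpenImmersion _ _ m this _

variable {G : Over (Spec (CommRingCat.of k))} [GrpObj G]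

/-- The point of a rational point. -/
noncomputable abbrev pt {X : Over (Spec (CommRingCat.of k))}
    (s : 𝟙_ (Over (Spec (CommRingCat.of k))) ⟶ X) : X.left := s.left (IsLocalRing.closedPoint k)

theorem exists_subgroup_closure [LocallyOfFiniteType G.hom]
    (S : Subgroup (𝟙_ (Over (Spec (CommRingCat.of k))) ⟶ G)) :
    ∃ (H : Over (Spec (CommRingCat.of k))) (_ : GrpObj H) (i : H ⟶ G), IsMonHom i ∧ IsClosedImmersion i.left ∧
      Smooth H.hom ∧ Set.range i.left = closure (pt '' (S : Set _)) := by
  let C : TopologicalSpace.Closeds G.left := ⟨closure (pt '' (S : Set _)), isClosed_closure⟩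
  let I := Scheme.IdealSheafData.vanishingIdeal C
  let H : Over (Spec (CommRingCat.of k)) := Over.mk (I.subschemeι ≫ G.hom)
  let i : H ⟶ G := Over.homMk I.subschemeι
  have hr : Set.range i.left = closure (pt '' (S : Set _)) := by
    change Set.range I.subschemeι = _
    rw [Scheme.IdealSheafData.range_subschemeι, Scheme.IdealSheafData.coe_support_vanishingIdeal]
    rfl
  have : IsClosedImmersion i.left := inferInstanceAs (IsClosedImmersion I.subschemeι)
  have : IsReduced H.left := isReduced_vanishingIdeal C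
  have fac : ∀ {T : Over (Spec (CommRingCat.of k))} (t : T ⟶ G) [IsReduced T.left],
      Set.range t.left ⊆ closure (pt '' (S : Set _)) → ∃ l : T ⟶ H, l ≫ i = t := by
    intro T t _ ht
    have hk : i.left.ker ≤ t.left.ker := by
      change I.subschemeι.ker ≤ _
      rw [Scheme.IdealSheafData.ker_subschemeι]
      exact RedKer.vanishingIdeal_le_ker t.left C ht
    refine ⟨Over.homMk (IsClosedImmersion.lift i.left t.left hk) ?_, ?_⟩
    · rw [← Over.w i, IsClosedImmersion.lift_fac_assoc, Over.w]
    · ext1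
      exact IsClosedImmersion.lift_fac _ _ _
  have : IsReduced (𝟙_ (Over (Spec (CommRingCat.of k)))).left :=
    inferInstanceAs (IsReduced (Spec (CommRingCat.of k)))
  have hpts : ∀ s ∈ S, ∃ l : 𝟙_ _ ⟶ H, l ≫ i = s := fun s hs => fac s (by
    rintro _ ⟨z, rfl⟩
    have : Subsingleton (𝟙_ (Over (Spec (CommRingCat.of k)))).left :=
      inferInstanceAs (Subsingleton (PrimeSpectrum k))
    rw [Subsingleton.elim z (IsLocalRing.closedPoint k)]
    exact subset_closure ⟨s, hs, rfl⟩)
  choose l hl using hpts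
  have hdense : Dense {x : H.left | ∃ s hs, pt (l s hs) = x} := by
    intro x
    rw [i.left.isClosedEmbedding.isInducing.closure_eq_preimage_closure_image, Set.mem_preimage]
    refine closure_mono ?_ (hr ▸ ⟨x, rfl⟩ : i.left x ∈ closure (pt '' (S : Set _)))
    rintro _ ⟨s, hs, rfl⟩
    exact ⟨_, ⟨s, hs, rfl⟩, congr(($(hl s hs)).left (IsLocalRing.closedPoint k))⟩
  have : GeometricallyReduced H.hom := by
    refine geometricallyReduced_of_dense H.hom
      {t | ∃ s hs, (l s hs).left = t} (by rintro _ ⟨s, hs, rfl⟩; exact Over.w (l s hs)) ?_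
    refine hdense.mono ?_
    rintro _ ⟨s, hs, rfl⟩
    exact ⟨_, ⟨s, hs, rfl⟩, rfl⟩
  have : GeometricallyReduced (H ⊗ H).hom := GeomRedPull.geometricallyReduced_pullback H.hom H.hom
  have : IsReduced (H ⊗ H).left :=
    GeometricallyReduced.isReduced_of_flat_of_isLocallyNoetherian (H ⊗ H).hom
  -- division
  let d : H ⊗ H ⟶ G := (fst H H ≫ i)⁻¹ * (snd H H ≫ i)
  have hline : ∀ s (hs : s ∈ S) {T : Over (Spec (CommRingCat.of k))} (y : T ⟶ H) (z : T.left),
      (lift (toUnit T ≫ l s hs) y ≫ d).left z ∈ closure (pt '' (S : Set _)) := by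
    intro s hs T y z
    have e : lift (toUnit T ≫ l s hs) y ≫ d = y ≫ i ≫ ((toUnit G ≫ s⁻¹) * 𝟙 G) := by
      simp only [d, MonObj.comp_mul, GrpObj.comp_inv, lift_fst_assoc, lift_snd_assoc, Category.assoc,
        hl, Category.comp_id]
      congr 2
      simp only [← Category.assoc]
      congr 1
      exact toUnit_unique _ _
    rw [e, Over.comp_left, Over.comp_left, Scheme.Hom.comp_apply, Scheme.Hom.comp_apply]
    let τ : G ⟶ G := (toUnit G ≫ s⁻¹) * 𝟙 G
    have hmem : i.left (y.left z) ∈ closure (pt '' (S : Set _)) := hr ▸ ⟨_, rfl⟩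
    refine closure_mono ?_ (image_closure_subset_closure_image τ.left.continuous ⟨_, hmem, rfl⟩)
    rintro _ ⟨_, ⟨t, ht, rfl⟩, rfl⟩
    refine ⟨s⁻¹ * t, S.mul_mem (S.inv_mem hs) ht, ?_⟩
    have : t ≫ τ = s⁻¹ * t := by
      simp only [τ, MonObj.comp_mul, Category.comp_id, ← Category.assoc]
      rw [show t ≫ toUnit G = 𝟙 _ from toUnit_unique _ _, Category.id_comp]
    exact (congr(($this).left (IsLocalRing.closedPoint k))).symm
  have hd : Set.range d.left ⊆ closure (pt '' (S : Set _)) := by
    rintro _ ⟨p, rfl⟩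
    by_contra hp
    have : UniversallyOpen (fst H H).left := inferInstanceAs (UniversallyOpen (pullback.fst H.hom H.hom))
    have hUo : IsOpen ((fst H H).left '' (d.left ⁻¹' (closure (pt '' (S : Set _)))ᶜ)) :=
      (fst H H).left.isOpenMap _ (isClosed_closure.isOpen_compl.preimage d.left.continuous)
    obtain ⟨_, ⟨s, hs, rfl⟩, p', hp', hp's⟩ := hdense.exists_mem_open hUo ⟨_, p, hp, rfl⟩
    -- `p'` lies over the point of `s`: it factors through `{s} × H`
    let j : H ⟶ H ⊗ H := lift (toUnit H ≫ l s hs) (𝟙 H)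
    have big : IsPullback (snd H H).left (fst H H).left H.hom H.hom :=
      (IsPullback.of_hasPullback H.hom H.hom).flip
    have sq : IsPullback j.left (toUnit H).left (fst H H).left (l s hs).left := by
      have w1 : j.left ≫ (fst H H).left = (toUnit H).left ≫ (l s hs).left := by
        rw [← Over.comp_left, lift_fst, Over.comp_left]
      refine IsPullback.of_right ?_ w1 big
      have e1 : j.left ≫ (snd H H).left = 𝟙 _ := by
        rw [← Over.comp_left, lift_snd]; rfl
      rw [e1, Over.w (l s hs)]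
      have : IsIso (𝟙_ (Over (Spec (CommRingCat.of k)))).hom :=
        inferInstanceAs (IsIso (𝟙 (Spec (CommRingCat.of k))))
      exact IsPullback.of_horiz_isIso ⟨(Category.id_comp H.hom).trans ((Category.comp_id _).trans (Over.toUnit_left ..)).symm⟩
    obtain ⟨h', hh'⟩ : p' ∈ Set.range j.left := by
      obtain ⟨w, hw, -⟩ := Scheme.Pullback.exists_preimage_pullback (f := (fst H H).left)
        (g := (l s hs).left) p' (IsLocalRing.closedPoint k) hp's
      exact ⟨sq.isoPullback.inv w, by rw [← Scheme.Hom.comp_apply, sq.isoPullback_inv_fst, hw]⟩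
    apply hp'
    rw [← hh', ← Scheme.Hom.comp_apply, ← Over.comp_left]
    exact hline s hs (𝟙 H) h'
  obtain ⟨m, hm⟩ := fac d hd
  have hdiv : ∀ (T : Over (Spec (CommRingCat.of k))) (k₁ k₂ : T ⟶ H),
      ∃ k₃ : T ⟶ H, k₃ ≫ i = (k₁ ≫ i)⁻¹ * (k₂ ≫ i) := fun T k₁ k₂ =>
    ⟨lift k₁ k₂ ≫ m, by
      rw [Category.assoc, hm, MonObj.comp_mul, GrpObj.comp_inv, lift_fst_assoc, lift_snd_assoc]⟩
  obtain ⟨hH, hi⟩ := SchImg.exists_grpObj_of_div i ⟨l 1 S.one_mem, by
    rw [hl, Hom.one_def, show toUnit (𝟙_ (Over (Spec (CommRingCat.of k)))) = 𝟙 _ from toUnit_unique _ _,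
      Category.id_comp]⟩ hdiv
  have : LocallyOfFiniteType H.hom := inferInstanceAs (LocallyOfFiniteType (I.subschemeι ≫ G.hom))
  let : GrpObj (Over.mk H.hom) := hH
  exact ⟨H, hH, i, hi, ‹_›, smooth_of_grpObj H.hom, hr⟩

end Groth.Agent.GrpField.RatClosure
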