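import Groth.Agent.GrpField.SchImgSurj

/-!
# Existence of the image subgroup of a quasi-compact homomorphism over a field
-/

universe u

open CategoryTheory CategoryTheory.Limits MonoidalCategory CartesianMonoidalCategory MonObj GrpObj AlgebraicGeometry

namespace Groth.Agent.GrpField.SchImg

theorem schDom_toImage {X Y : Scheme.{u}} (f : X ⟶ Y) [QuasiCompact f] :
    IsSchemeTheoreticallyDominant f.toImage := by
  rw [isSchemeTheoreticallyDominant_iff]
  refine Scheme.IdealSheafData.ext_of_iSup_eq_top
    (fun U : Y.affineOpens => ⟨f.imageι ⁻¹ᵁ U.1, U.2.preimage f.imageι⟩) ?_ fun U => ?_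
  · rw [← Scheme.Hom.preimage_iSup, (iSup_affineOpens_eq_top Y)]
    rfl
  · rw [Scheme.Hom.ker_apply, Scheme.IdealSheafData.ideal_bot, Pi.bot_apply]
    exact (RingHom.injective_iff_ker_eq_bot _).1 (f.toImage_app_injective (U := U))

variable {k : Type u} [Field k] {H G : Over (Spec (CommRingCat.of k))} [GrpObj H] [GrpObj G]

theorem exists_image (f : H ⟶ G) [IsMonHom f] [QuasiCompact f.left] :
    ∃ (K : Over (Spec (CommRingCat.of k))) (_ : GrpObj K) (i : K ⟶ G) (g : H ⟶ K),
      IsMonHom i ∧ IsMonHom g ∧ g ≫ i = f ∧ IsClosedImmersion i.left ∧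
      IsSchemeTheoreticallyDominant g.left ∧ QuasiCompact g.left ∧ Surjective g.left := by
  let K : Over (Spec (CommRingCat.of k)) := Over.mk (f.left.imageι ≫ G.hom)
  let i : K ⟶ G := Over.homMk f.left.imageι
  let g : H ⟶ K := Over.homMk f.left.toImage (by
    change f.left.toImage ≫ f.left.imageι ≫ G.hom = H.hom
    rw [Scheme.Hom.toImage_imageι_assoc, Over.w])
  have hgi : g ≫ i = f := by ext1; exact f.left.toImage_imageι
  have : IsClosedImmersion i.left := inferInstanceAs (IsClosedImmersion f.left.imageι)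
  have hd : IsSchemeTheoreticallyDominant g.left := schDom_toImage f.left
  obtain ⟨hK, hi, hg⟩ := exists_grpObj f i g hgi
  have := quasiCompact_factor f i g hgi
  exact ⟨K, hK, i, g, hi, hg, hgi, ‹_›, hd, this, surjective_of_isDominant g⟩

end Groth.Agent.GrpField.SchImg
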