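import Groth.Agent.FlatInjDescent.Stalk
import Groth.Agent.GrpField.SchImgExists
import Groth.Agent.GrpField.FlatPoint
import Groth.Agent.GrpField.Kernel

/-!
# A schematically dominant quasi-compact homomorphism of groups over a field is flat
-/

universe u

open CategoryTheory CategoryTheory.Limits MonoidalCategory CartesianMonoidalCategory MonObj GrpObj AlgebraicGeometry

namespace Groth.Agent.GrpField

variable {k : Type u} [Field k] {G H : Over (Spec (CommRingCat.of k))} [GrpObj G] [GrpObj H]
  (f : G ⟶ H) [IsMonHom f]

/-- a homomorphism over a field: the base change along itself is isomorphic to a base change of the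
kernel -/
theorem snd_self_iff (P : MorphismProperty Scheme.{u}) [P.IsStableUnderBaseChange]
    (h : P (pullback.snd f.left (η[H] : 𝟙_ (Over (Spec (CommRingCat.of k))) ⟶ H).left)) :
    P (pullback.snd f.left f.left) := by
  rw [translate_iff f P f (𝟙 G)⁻¹, GrpObj.inv_comp, Category.id_comp, mul_inv_cancel,
    show (1 : G ⟶ H) = toUnit G ≫ η from rfl, Over.comp_left]
  exact snd_of_comp f P _ _ h

/-- **Faithful flatness of a schematically dominant homomorphism.** -/
theorem flat_of_schDom [LocallyOfFiniteType H.hom] [QuasiCompact f.left] (hker : f.left.ker = ⊥) :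
    Flat f.left := by
  have : IsLocallyNoetherian H.left := LocallyOfFiniteType.isLocallyNoetherian H.hom
  have hs : Flat (pullback.snd f.left f.left) := snd_self_iff f @Flat
    (SchImg.flat_hom (Over.mk (show _ ⟶ Spec (CommRingCat.of k) from
      pullback.snd f.left (η[H] : 𝟙_ (Over (Spec (CommRingCat.of k))) ⟶ H).left)))
  have : Flat (pullback.fst f.left f.left) := by
    rw [← pullbackSymmetry_hom_comp_snd]; infer_instance
  obtain ⟨z⟩ : Nonempty (Spec (CommRingCat.of k)) := inferInstance
  let e := (η[H] : 𝟙_ (Over (Spec (CommRingCat.of k))) ⟶ H).left z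
  let hI := isIrreducible_irreducibleComponent (x := e)
  have hgen := hI.isGenericPoint_genericPoint isClosed_irreducibleComponent
  let y := hI.genericPoint
  have hy : ∀ w, w ⤳ y → w = y := fun w hw => by
    have hle : irreducibleComponent e ⊆ closure {w} := fun a ha =>
      specializes_iff_mem_closure.mp (hw.trans (hgen.specializes ha))
    have heq := eq_irreducibleComponent isIrreducible_singleton.closure.2 hle
    exact IsGenericPoint.eq (show IsGenericPoint w (irreducibleComponent e) from heq) hgen
  have hd : IsSchemeTheoreticallyDominant f.left := (isSchemeTheoreticallyDominant_iff _).2 hker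
  have hy' : y ∈ closure (Set.range f.left) := by
    have h := f.left.support_ker
    rw [hker, Scheme.IdealSheafData.support_bot] at h
    exact h.subset trivial
  obtain ⟨x, hx⟩ := mem_range_of_maximal f.left hy hy'
  exact flat_of_flat_stalkMap f
    (FlatInjDescent.flat_stalkMap_of_maximal f.left hker x (fun w hw => by rw [hx] at hw ⊢; exact hy w hw))

end Groth.Agent.GrpField
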