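import Groth.Agent.GrpField.SchImgExists
import Groth.Agent.GrpBasic.Open
import Groth.Agent.SmoothRed.Scheme
import Groth.Agent.RedKer.Basic
import Mathlib.AlgebraicGeometry.Geometrically.Reduced

/-!
# The image of a smooth group is smooth
-/

universe u

open CategoryTheory CategoryTheory.Limits MonoidalCategory CartesianMonoidalCategory MonObj GrpObj AlgebraicGeometry

namespace Groth.Agent.GrpField.SchImg

variable {k : Type u} [Field k]

/-- A schematically dominant image of a geometrically reduced scheme is geometrically reduced. -/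
theorem geometricallyReduced_of_schDom {X Y : Over (Spec (CommRingCat.of k))} (g : X ⟶ Y)
    [IsSchemeTheoreticallyDominant g.left] [QuasiCompact g.left] [GeometricallyReduced X.hom] :
    GeometricallyReduced Y.hom := by
  refine ⟨fun K _ y Z p₁ p₂ h => ?_⟩
  have : Flat p₁ := MorphismProperty.of_isPullback h.flip (inferInstance : Flat y)
  have big : IsPullback (pullback.fst g.left p₁) (pullback.snd g.left p₁ ≫ p₂) X.hom y := by
    rw [← Over.w g]
    exact (IsPullback.of_hasPullback g.left p₁).paste_vert h
  have : IsReduced (pullback g.left p₁) := GeometricallyReduced.geometrically_isReduced _ _ _ big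
  exact IsSchemeTheoreticallyDominant.isReduced (pullback.snd g.left p₁)

theorem geometricallyReduced_of_smooth {X : Scheme.{u}} (f : X ⟶ Spec (CommRingCat.of k)) [Smooth f] :
    GeometricallyReduced f := by
  refine ⟨fun K _ y Z p₁ p₂ h => ?_⟩
  have : Smooth p₂ := MorphismProperty.of_isPullback h (inferInstance : Smooth f)
  exact SmoothRed.isReduced_of_smooth_scheme p₂

/-- Two reduced closed subschemes with the same support are isomorphic. -/
theorem exists_iso_of_range_eq {X Y Z : Scheme.{u}} (i : X ⟶ Z) (j : Y ⟶ Z) [IsClosedImmersion i]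
    [IsClosedImmersion j] [IsReduced X] [IsReduced Y] (h : Set.range i = Set.range j) :
    ∃ e : X ≅ Y, e.hom ≫ j = i := by
  have key : ∀ {X : Scheme.{u}} (i : X ⟶ Z) [IsClosedImmersion i] [IsReduced X],
      i.ker = Scheme.IdealSheafData.vanishingIdeal ⟨Set.range i, i.isClosedEmbedding.isClosed_range⟩ := by
    intro X i _ _
    refine le_antisymm ?_ (RedKer.vanishingIdeal_le_ker i _ (subset_refl _))
    rw [← Scheme.IdealSheafData.le_support_iff_le_vanishingIdeal]
    exact fun z hz => Scheme.Hom.range_subset_ker_support i hz
  have hk : j.ker = i.ker := by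
    rw [key i, key j]; congr 1; ext1; exact h.symm
  have : IsIso (IsClosedImmersion.lift j i hk.le) := IsClosedImmersion.isIso_lift j i hk
  exact ⟨asIso (IsClosedImmersion.lift j i hk.le), IsClosedImmersion.lift_fac _ _ _⟩

/-- The image of a smooth group, with reduced structure, is smooth. -/
theorem smooth_reduced_range {H G : Over (Spec (CommRingCat.of k))} [GrpObj H] [GrpObj G]
    [Smooth H.hom] [LocallyOfFiniteType G.hom] (f : H ⟶ G) [IsMonHom f] [QuasiCompact f.left]
    {Z : Scheme.{u}} (i : Z ⟶ G.left) [IsClosedImmersion i] [IsReduced Z]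
    (hZ : Set.range i = Set.range f.left) : Smooth (i ≫ G.hom) := by
  obtain ⟨K, hK, j, g, hj, hg, hgj, hjc, hd, hq, hs⟩ := exists_image f
  have := geometricallyReduced_of_smooth H.hom
  have := geometricallyReduced_of_schDom g
  have : LocallyOfFiniteType K.hom := by rw [← Over.w j]; infer_instance
  let : GrpObj (Over.mk K.hom) := hK
  have : Smooth K.hom := smooth_of_grpObj K.hom
  have : IsReduced H.left := SmoothRed.isReduced_of_smooth_scheme H.hom
  have : IsReduced K.left := IsSchemeTheoreticallyDominant.isReduced g.left
  have hr : Set.range i = Set.range j.left := by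
    rw [hZ, ← hgj, show ⇑(g ≫ j).left = j.left ∘ g.left from rfl, Set.range_comp,
      Set.range_eq_univ.2 g.left.surjective, Set.image_univ]
  obtain ⟨e, he⟩ := exists_iso_of_range_eq i j.left hr
  rw [← he, Category.assoc, Over.w]
  infer_instance

end Groth.Agent.GrpField.SchImg
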