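import Mathlib.AlgebraicGeometry.Morphisms.FlatDescent
import Mathlib.AlgebraicGeometry.Morphisms.UniversallyOpen
import Mathlib.AlgebraicGeometry.Morphisms.Separated
import Mathlib.AlgebraicGeometry.Morphisms.Immersion
import Mathlib.Topology.Constructible

/-!
# Descent of topological properties along universally open surjections
-/

universe u

open CategoryTheory CategoryTheory.Limits MorphismProperty AlgebraicGeometry TopologicalSpace

namespace Groth.Agent.GrpField

/-- The covering morphisms: universally open and surjective. -/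
abbrev OpenCov : MorphismProperty Scheme.{u} := @Surjective ⊓ @UniversallyOpen

lemma isQuotientMap_of_openCov {X Y : Scheme.{u}} (f : X ⟶ Y) [Surjective f] [UniversallyOpen f] :
    Topology.IsQuotientMap f :=
  (IsOpenMap.isQuotientMap f.isOpenMap f.continuous f.surjective)

instance descendsAlong_universallyClosed : DescendsAlong @UniversallyClosed OpenCov.{u} := by
  refine DescendsAlong.mk' fun {X Y Z v g} _ ⟨_, _⟩ hfst => ⟨universally_mk' _ _ fun {T} f _ s hs => ?_⟩
  let p := pullback.fst (pullback.fst v f) (pullback.fst v g)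
  let r : pullback (pullback.fst v f) (pullback.fst v g) ⟶ pullback f g :=
    pullback.map _ _ _ _ (pullback.snd _ _) (pullback.snd _ _) v (pullback.condition ..)
      (pullback.condition ..)
  have : IsClosed ((pullback.snd v f).base ⁻¹' ((pullback.fst f g).base '' s)) := by
    rw [← Scheme.image_preimage_eq_of_isPullback (isPullback_map_snd_snd ..)]
    exact p.isClosedMap _ (hs.preimage r.continuous)
  rwa [(isQuotientMap_of_openCov _).isClosed_preimage] at this

instance descendsAlong_universallyOpen : DescendsAlong @UniversallyOpen OpenCov.{u} := by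
  refine DescendsAlong.mk' fun {X Y Z v g} _ ⟨_, _⟩ hfst => ⟨universally_mk' _ _ fun {T} f _ s hs => ?_⟩
  let p := pullback.fst (pullback.fst v f) (pullback.fst v g)
  let r : pullback (pullback.fst v f) (pullback.fst v g) ⟶ pullback f g :=
    pullback.map _ _ _ _ (pullback.snd _ _) (pullback.snd _ _) v (pullback.condition ..)
      (pullback.condition ..)
  have : IsOpen ((pullback.snd v f).base ⁻¹' ((pullback.fst f g).base '' s)) := by
    rw [← Scheme.image_preimage_eq_of_isPullback (isPullback_map_snd_snd ..)]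
    exact p.isOpenMap _ (hs.preimage r.continuous)
  rwa [(isQuotientMap_of_openCov _).isOpen_preimage] at this

/-- Separatedness descends along surjective universally closed maps at the source. -/
theorem isSeparated_of_comp {X Y Z : Scheme.{u}} (p : X ⟶ Y) (g : Y ⟶ Z) [Surjective p]
    [UniversallyClosed p] [IsSeparated (p ≫ g)] : IsSeparated g := by
  let q := pullback.map (p ≫ g) (p ≫ g) g g p p (𝟙 _) (by simp) (by simp)
  have hq : UniversallyClosed q := MorphismProperty.pullback_map (P := @UniversallyClosed) ‹_› ‹_› rfl rfl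
  have e : pullback.diagonal (p ≫ g) ≫ q = p ≫ pullback.diagonal g := by
    apply pullback.hom_ext <;> simp only [q, Category.assoc, pullback.map, pullback.lift_fst, pullback.lift_snd, pullback.diagonal_fst, pullback.diagonal_snd, pullback.diagonal_fst_assoc, pullback.diagonal_snd_assoc, Category.comp_id]
  have hr : Set.range (pullback.diagonal g) = q '' Set.range (pullback.diagonal (p ≫ g)) := by
    ext z
    constructor
    · rintro ⟨y, rfl⟩
      obtain ⟨x, rfl⟩ := p.surjective y
      exact ⟨_, ⟨x, rfl⟩, by rw [← Scheme.Hom.comp_apply, e, Scheme.Hom.comp_apply]⟩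
    · rintro ⟨_, ⟨x, rfl⟩, rfl⟩
      exact ⟨p x, by rw [← Scheme.Hom.comp_apply, ← e, Scheme.Hom.comp_apply]⟩
  refine ⟨IsClosedImmersion.of_isPreimmersion _ ?_⟩
  rw [hr]
  exact q.isClosedMap _ (pullback.diagonal (p ≫ g)).isClosedEmbedding.isClosed_range

/-- A locally constructible set contains a relatively open dense subset of its closure. -/
theorem exists_isOpen_inter_closure_subset {X : Type*} [TopologicalSpace X] {A : Set X}
    (hA : Topology.IsLocallyConstructible A) {W : Set X} (hW : IsOpen W) (hWA : (W ∩ A).Nonempty) :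
    ∃ W' ⊆ W, IsOpen W' ∧ (W' ∩ A).Nonempty ∧ closure A ∩ W' ⊆ A := by
  have key : ∀ {Y : Type _} [TopologicalSpace Y] {s : Set Y}, Topology.IsConstructible s →
      ∀ {Z W : Set Y}, IsOpen W → (W ∩ Z).Nonempty →
      ∃ W' ⊆ W, IsOpen W' ∧ (W' ∩ Z).Nonempty ∧ (Z ∩ W' ⊆ s ∨ Z ∩ W' ⊆ sᶜ) := by
    intro Y _ s hs
    induction hs using Topology.IsConstructible.empty_union_induction with
    | open_retrocompact U hU _ =>
      intro Z W hW hWZ
      by_cases h : (W ∩ U ∩ Z).Nonempty
      · exact ⟨W ∩ U, Set.inter_subset_left, hW.inter hU, h, Or.inl fun x hx => hx.2.2⟩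
      · exact ⟨W, subset_rfl, hW, hWZ, Or.inr fun x hx hxU => h ⟨x, ⟨hx.2, hxU⟩, hx.1⟩⟩
    | union s _ t _ ihs iht =>
      intro Z W hW hWZ
      obtain ⟨W₁, h1, h1o, h1n, h1s | h1s⟩ := ihs hW hWZ
      · exact ⟨W₁, h1, h1o, h1n, Or.inl fun x hx => Or.inl (h1s hx)⟩
      obtain ⟨W₂, h2, h2o, h2n, h2s | h2s⟩ := iht h1o h1n
      · exact ⟨W₂, h2.trans h1, h2o, h2n, Or.inl fun x hx => Or.inr (h2s hx)⟩
      · refine ⟨W₂, h2.trans h1, h2o, h2n, Or.inr fun x hx hxs => ?_⟩
        rcases hxs with hxs | hxs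
        · exact h1s ⟨hx.1, h2 hx.2⟩ hxs
        · exact h2s hx hxs
    | compl s _ ih =>
      intro Z W hW hWZ
      obtain ⟨W₁, h1, h1o, h1n, h | h⟩ := ih hW hWZ
      · exact ⟨W₁, h1, h1o, h1n, Or.inr (by rwa [compl_compl])⟩
      · exact ⟨W₁, h1, h1o, h1n, Or.inl h⟩
  obtain ⟨x, hxW, hxA⟩ := hWA
  obtain ⟨U, hUx, hUo, hUc⟩ := hA x
  obtain ⟨W', h1, h1o, h1n, h1s⟩ := key hUc (Z := Subtype.val ⁻¹' closure A)
    (W := (Subtype.val ⁻¹' W : Set U)) (hW.preimage continuous_subtype_val)
    ⟨⟨x, mem_of_mem_nhds hUx⟩, hxW, subset_closure hxA⟩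
  have hV : IsOpen (Subtype.val '' W') := hUo.isOpenMap_subtype_val _ h1o
  obtain ⟨⟨a, ha⟩, haW', haZ⟩ := h1n
  obtain ⟨b, ⟨⟨b', hb'W, rfl⟩, hbA⟩⟩ := mem_closure_iff.1 haZ _ hV ⟨_, haW', rfl⟩
  refine ⟨_, Set.image_subset_iff.2 h1, hV, ⟨_, ⟨b', hb'W, rfl⟩, hbA⟩, ?_⟩
  rcases h1s with h | h
  · rintro _ ⟨hc, ⟨c, hc', rfl⟩⟩
    exact h ⟨hc, hc'⟩
  · exact absurd hbA (h ⟨subset_closure hbA, hb'W⟩)

end Groth.Agent.GrpField
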