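import Groth.Agent.GrpField.Translate
import Groth.Agent.GrpField.Descent
import Mathlib.AlgebraicGeometry.IdealSheaf.Subscheme

/-!
# Spreading properties of homomorphisms over their image by translation
-/

universe u

open CategoryTheory CategoryTheory.Limits MonoidalCategory CartesianMonoidalCategory MonObj AlgebraicGeometry
open MorphismProperty (DescendsAlong)

namespace Groth.Agent.GrpField

variable {S : Scheme.{u}} {G H : Over S} [GrpObj G] [GrpObj H] (f : G ⟶ H) [IsMonHom f]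

/-- Translating the base point of a fibre by an element of the source gives an isomorphic fibre. -/
theorem isPullback_translate {X Y : Over S} {x : X ⟶ G} {y : X ⟶ Y} {a : Y ⟶ H}
    (h : IsPullback x y f a) (c : Y ⟶ G) : IsPullback (x * (y ≫ c)) y f (a * (c ≫ f)) := by
  have w : (x * (y ≫ c)) ≫ f = y ≫ (a * (c ≫ f)) := by
    simp [MonObj.mul_comp, MonObj.comp_mul, h.w]
  have hw : ∀ s : PullbackCone f (a * (c ≫ f)), (s.fst * (s.snd ≫ c)⁻¹) ≫ f = s.snd ≫ a := fun s => by
    simp [MonObj.mul_comp, GrpObj.inv_comp, s.condition, MonObj.comp_mul]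
  refine IsPullback.of_isLimit' ⟨w⟩ (PullbackCone.IsLimit.mk _
    (fun s => h.lift (s.fst * (s.snd ≫ c)⁻¹) s.snd (hw s)) (fun s => ?_) (fun s => h.lift_snd _ _ _) ?_)
  · simp [MonObj.comp_mul]
  · intro s m h1 h2
    refine h.hom_ext ?_ ?_
    · rw [h.lift_fst, ← h1]
      simp [MonObj.comp_mul, h2, reassoc_of% h2]
    · rw [h.lift_snd, h2]

omit [GrpObj G] [GrpObj H] [IsMonHom f] in
lemma isPullback_over {Y : Over S} (a : Y ⟶ H) :
    IsPullback (Over.homMk (pullback.fst f.left a.left) :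
      Over.mk (pullback.fst f.left a.left ≫ G.hom) ⟶ G)
      (Over.homMk (pullback.snd f.left a.left) (by
        change _ ≫ Y.hom = _ ≫ G.hom
        rw [← Over.w a, ← Over.w f, pullback.condition_assoc])) f a :=
  .of_map (Over.forget S) (by ext1; exact pullback.condition) (IsPullback.of_hasPullback f.left a.left)

/-- A property of the fibres is invariant under translations by the source. -/
theorem translate_iff (P : MorphismProperty Scheme.{u}) [P.RespectsIso] {Y : Over S} (a : Y ⟶ H)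
    (c : Y ⟶ G) : P (pullback.snd f.left a.left) ↔ P (pullback.snd f.left (a * (c ≫ f)).left) := by
  have h := (isPullback_translate f (isPullback_over f a) c).map (Over.forget S)
  simp only [Over.forget_map] at h
  have e := P.cancel_left_of_respectsIso h.isoPullback.hom (pullback.snd f.left (a * (c ≫ f)).left)
  erw [h.isoPullback_hom_snd] at e
  exact e

omit [GrpObj G] [GrpObj H] [IsMonHom f] in
/-- `P` holds for all base changes of `f` along maps into the set `A`. -/
def Rel (P : MorphismProperty Scheme.{u}) (A : Set H.left) : Prop :=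
  ∀ ⦃Y : Scheme.{u}⦄ (g : Y ⟶ H.left), (∀ y, g y ∈ A) → P (pullback.snd f.left g)

omit [GrpObj G] [GrpObj H] [IsMonHom f] in
lemma snd_of_comp (P : MorphismProperty Scheme.{u}) [P.IsStableUnderBaseChange] {Y Y' : Scheme.{u}}
    (g : Y ⟶ H.left) (p : Y' ⟶ Y) (h : P (pullback.snd f.left g)) :
    P (pullback.snd f.left (p ≫ g)) := by
  rw [← pullbackLeftPullbackSndIso_inv_snd_snd f.left g p, P.cancel_left_of_respectsIso]
  exact P.pullback_snd _ _ h

omit [GrpObj G] [GrpObj H] [IsMonHom f] in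
lemma snd_of_comp_cov (P : MorphismProperty Scheme.{u}) [P.RespectsIso] [P.DescendsAlong OpenCov]
    {Y Y' : Scheme.{u}} (g : Y ⟶ H.left) (p : Y' ⟶ Y) [Surjective p] [UniversallyOpen p]
    (h : P (pullback.snd f.left (p ≫ g))) : P (pullback.snd f.left g) := by
  rw [← pullbackLeftPullbackSndIso_inv_snd_snd f.left g p, P.cancel_left_of_respectsIso] at h
  exact MorphismProperty.of_pullback_snd_of_descendsAlong (Q := OpenCov) ⟨‹_›, ‹_›⟩ h

variable [PointBase S]

/-- A property of `f` over a nonempty open piece of the range spreads to the whole range. -/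
theorem rel_range_of_nonempty [Subsingleton S] (P : MorphismProperty Scheme.{u})
    [P.IsStableUnderBaseChange] [IsZariskiLocalAtTarget P] [P.DescendsAlong OpenCov] {W : Set H.left}
    (hW : IsOpen W) (hne : (W ∩ Set.range f.left).Nonempty)
    (hP : Rel f P (Set.range f.left ∩ W)) : Rel f P (Set.range f.left) := by
  intro Y g hg
  have : Nonempty S := ⟨H.hom hne.some⟩
  obtain ⟨w, hwW, hwZ⟩ := hne
  suffices h : ∀ y, ∃ V : Y.Opens, y ∈ V ∧ P (pullback.snd f.left (V.ι ≫ g)) by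
    choose V hy hV using h
    refine IsZariskiLocalAtTarget.of_iSup_eq_top V (top_le_iff.1 fun y _ => TopologicalSpace.Opens.mem_iSup.2 ⟨y, hy y⟩) fun y => ?_
    have sq := (isPullback_morphismRestrict (pullback.snd f.left g) (V y)).flip.paste_horiz
      (IsPullback.of_hasPullback f.left g)
    rw [← P.cancel_left_of_respectsIso (sq.isoPullback).inv, IsPullback.isoPullback_inv_snd]
    exact hV y
  intro y
  obtain ⟨T₀, _, a₀, b₀, ha₀, hb₀⟩ := exists_pt₂ (g y) w
  obtain ⟨t₀⟩ := IsPt.nonempty T₀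
  obtain ⟨T₁, _, v₁, x₁, h₁⟩ := exists_lift_pt f a₀ t₀ (by rw [ha₀]; exact hg y)
  obtain ⟨t₁⟩ := IsPt.nonempty T₁
  obtain ⟨T, _, v₂, x₂, h₂⟩ := exists_lift_pt f (v₁ ≫ b₀) t₁
    (by rw [Over.comp_left, Scheme.Hom.comp_apply, hb₀]; exact hwZ)
  obtain ⟨t⟩ := IsPt.nonempty T
  let c : T ⟶ G := (v₂ ≫ x₁)⁻¹ * x₂
  let a : T ⟶ H := v₂ ≫ v₁ ≫ a₀
  have hac : a * (c ≫ f) = v₂ ≫ v₁ ≫ b₀ := by
    simp [c, a, MonObj.mul_comp, GrpObj.inv_comp, h₁, h₂]
  let e := trR (c ≫ f)
  let O' : (H ⊗ T).left.Opens := ⟨(e.hom.left ≫ (fst H T).left) ⁻¹' W, hW.preimage (Scheme.Hom.continuous _)⟩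
  let y₀ := (lift a (𝟙 T)).left t
  have hy₀ : y₀ ∈ O' := by
    change (e.hom.left ≫ (fst H T).left) ((lift a (𝟙 T)).left t) ∈ W
    rw [← Scheme.Hom.comp_apply, ← Over.comp_left, ← Over.comp_left,
      show lift a (𝟙 T) ≫ e.hom ≫ fst H T = a * (c ≫ f) by simp [e, trR, MonObj.comp_mul], hac,
      Over.comp_left, Over.comp_left, Scheme.Hom.comp_apply, Scheme.Hom.comp_apply, hb₀]
    exact hwW
  let j := O'.ι ≫ (fst H T).left
  have : UniversallyOpen (fst H T).left :=
    MorphismProperty.pullback_fst H.hom T.hom (IsPt.uopen T)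
  let V : Y.Opens := ⟨g ⁻¹' Set.range j, (j.isOpenMap.isOpen_range).preimage g.continuous⟩
  refine ⟨V, ⟨⟨y₀, hy₀⟩, ?_⟩, ?_⟩
  · change (fst H T).left y₀ = g y
    rw [← Scheme.Hom.comp_apply, ← Over.comp_left, lift_fst, Over.comp_left, Over.comp_left,
      Scheme.Hom.comp_apply, Scheme.Hom.comp_apply, ha₀]
  let p := pullback.fst (V.ι ≫ g) j
  have : Surjective p := ⟨fun v => by
    obtain ⟨o, ho⟩ : g v.1 ∈ Set.range j := v.2
    obtain ⟨z, h1, -⟩ := Scheme.Pullback.exists_preimage_pullback (f := V.ι ≫ g) (g := j) v o ho.symm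
    exact ⟨z, h1⟩⟩
  apply snd_of_comp_cov f P (V.ι ≫ g) p
  let Y' : Over S := Over.mk ((pullback.snd (V.ι ≫ g) j ≫ O'.ι) ≫ (H ⊗ T).hom)
  let k : Y' ⟶ H ⊗ T := Over.homMk (pullback.snd (V.ι ≫ g) j ≫ O'.ι)
  have hk : (k ≫ fst H T).left = p ≫ V.ι ≫ g := by
    change (_ ≫ _) ≫ _ = _
    rw [Category.assoc]
    exact pullback.condition.symm
  rw [← hk, translate_iff f P (k ≫ fst H T) (k ≫ snd H T ≫ c)]
  apply hP
  intro q
  refine ⟨?_, ?_⟩
  · obtain ⟨T', _, r, hr⟩ := exists_pt q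
    obtain ⟨t'⟩ := IsPt.nonempty T'
    have hr' : ∀ s, (r ≫ k ≫ fst H T).left s ∈ Set.range f.left := fun s => by
      rw [Over.comp_left, hk, Scheme.Hom.comp_apply, Scheme.Hom.comp_apply, Scheme.Hom.comp_apply]
      exact hg _
    have := (isSubgroupSet_range f).mul (r ≫ k ≫ fst H T) ((r ≫ k ≫ snd H T ≫ c) ≫ f) hr'
      (fun s => ⟨_, by rw [Over.comp_left, Scheme.Hom.comp_apply]⟩) t'
    rw [show (r ≫ k ≫ fst H T) * ((r ≫ k ≫ snd H T ≫ c) ≫ f) =
      r ≫ (k ≫ fst H T * (k ≫ snd H T ≫ c) ≫ f) by simp [MonObj.comp_mul],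
      Over.comp_left, Scheme.Hom.comp_apply, hr] at this
    exact this
  · rw [show k ≫ fst H T * (k ≫ snd H T ≫ c) ≫ f = k ≫ e.hom ≫ fst H T by
      simp [e, trR, MonObj.comp_mul]]
    exact (pullback.snd (V.ι ≫ g) j q).2

end Groth.Agent.GrpField
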