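import Groth.Agent.GrpField.FlatPoint
import Groth.Agent.GrpField.Spread
import Groth.Agent.GenFree.Scheme
import Mathlib.AlgebraicGeometry.Morphisms.LocalFlatDescent
import Mathlib.AlgebraicGeometry.Noetherian
import Groth.Agent.GrpField.SchImgSmooth

/-!
# Surjective homomorphisms onto reduced groups over a field
-/

universe u

open CategoryTheory CategoryTheory.Limits MonoidalCategory CartesianMonoidalCategory MonObj GrpObj AlgebraicGeometry

namespace Groth.Agent.GrpField

variable {k : Type u} [Field k] {G H : Over (Spec (CommRingCat.of k))} [GrpObj G] [GrpObj H]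
  (f : G ⟶ H) [IsMonHom f] [LocallyOfFiniteType G.hom] [LocallyOfFiniteType H.hom]
  [QuasiCompact f.left] [Surjective f.left]

omit [GrpObj G] [GrpObj H] [IsMonHom f] in
theorem flat_stalkMap_of_restrict {X Y : Scheme.{u}} (g : X ⟶ Y) (U : Y.Opens) [Flat (g ∣_ U)]
    {x : X} (hx : g x ∈ U) : (g.stalkMap x).hom.Flat := by
  have : Flat ((g ⁻¹ᵁ U).ι ≫ g) := by rw [← morphismRestrict_ι]; infer_instance
  have h := Flat.stalkMap ((g ⁻¹ᵁ U).ι ≫ g) ⟨x, hx⟩
  rw [Scheme.Hom.stalkMap_comp] at h
  rw [← Scheme.Opens.stalkIso_inv] at h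
  have h2 := h.comp (RingHom.Flat.of_bijective
    ((g ⁻¹ᵁ U).stalkIso ⟨x, hx⟩).commRingCatIsoToRingEquiv.bijective)
  have e : (g.stalkMap x ≫ ((g ⁻¹ᵁ U).stalkIso ⟨x, hx⟩).inv) ≫ ((g ⁻¹ᵁ U).stalkIso ⟨x, hx⟩).hom =
      g.stalkMap x := by
    rw [Category.assoc, Iso.inv_hom_id, Category.comp_id]
  rw [← e]
  exact h2

/-- A surjective homomorphism onto a reduced group is flat. -/
theorem flat_of_surjective_reduced [IsReduced H.left] : Flat f.left := by
  have : LocallyOfFiniteType (f.left ≫ H.hom) := by rw [Over.w]; infer_instance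
  have : LocallyOfFiniteType f.left := locallyOfFiniteType_of_comp f.left H.hom
  obtain ⟨U, hU, hfl, -⟩ := GenFree.exists_dense_flat_fp f.left
  obtain ⟨z⟩ : Nonempty (Spec (CommRingCat.of k)) := inferInstance
  have : Nonempty H.left := ⟨(η[H] : 𝟙_ (Over (Spec (CommRingCat.of k))) ⟶ H).left z⟩
  obtain ⟨y, hy⟩ := hU.nonempty
  obtain ⟨x, rfl⟩ := f.left.surjective y
  exact flat_of_flat_stalkMap f (flat_stalkMap_of_restrict f.left U hy)

/-- A surjective homomorphism onto a reduced group with smooth kernel is smooth. -/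
theorem smooth_of_kernel [IsReduced H.left]
    (hK : Smooth (pullback.snd f.left (η[H] : 𝟙_ (Over (Spec (CommRingCat.of k))) ⟶ H).left)) :
    Smooth f.left := by
  have := flat_of_surjective_reduced f
  apply MorphismProperty.of_pullback_snd_of_descendsAlong
    (Q := @Surjective ⊓ @Flat ⊓ @QuasiCompact) (f := f.left) (g := f.left)
  · exact ⟨⟨inferInstance, inferInstance⟩, inferInstance⟩
  · rw [translate_iff f @Smooth f (𝟙 G)⁻¹, GrpObj.inv_comp, Category.id_comp, mul_inv_cancel,
      show (1 : G ⟶ H) = toUnit G ≫ η from rfl, Over.comp_left]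
    exact snd_of_comp f @Smooth _ _ hK

end Groth.Agent.GrpField
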