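import Groth.Agent.CotT.PointSmooth
import Groth.Agent.GrpField.Dimension
import Groth.Agent.GrpBasic.Perfect

/-!
# Smoothness of group schemes at the unit
-/

universe u

open CategoryTheory CategoryTheory.Limits MonoidalCategory CartesianMonoidalCategory MonObj AlgebraicGeometry TopologicalSpace
open IsLocalRing

noncomputable section

namespace Groth.Agent.GrpField

open Groth.Agent.CotT in
/-- Regular = smooth at points with residue field `k`. -/
theorem regular_iff_smoothAt_of_residue {k B : Type u} [Field k] [CommRing B] [Algebra k B]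
    [Algebra.FiniteType k B] (m : Ideal B) [hm : m.IsMaximal]
    (hres : ∀ b : B, ∃ c : k, b - algebraMap k B c ∈ m) :
    IsRegularLocalRing (Localization.AtPrime m) ↔ Algebra.FormallySmooth k (Localization.AtPrime m) := by
  obtain ⟨n, π, hπ⟩ := Algebra.FiniteType.iff_quotient_mvPolynomial''.1 ‹Algebra.FiniteType k B›
  let M := m.comap π.toRingHom
  have : M.IsMaximal := Ideal.comap_isMaximal_of_surjective π.toRingHom hπ
  let φ := Localization.localRingHom M m π.toRingHom rfl
  have hφ : Function.Surjective φ := RingHom.surjective_localRingHom_of_surjective π.toRingHom hπ m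
  let _ : Algebra (Localization.AtPrime M) (Localization.AtPrime m) := φ.toAlgebra
  have : IsScalarTower k (Localization.AtPrime M) (Localization.AtPrime m) := IsScalarTower.of_algebraMap_eq fun x => by
    show _ = φ _
    rw [IsScalarTower.algebraMap_apply k (MvPolynomial (Fin n) k) (Localization.AtPrime M),
      Localization.localRingHom_to_map, IsScalarTower.algebraMap_apply k B (Localization.AtPrime m)]
    exact congrArg _ (π.commutes x).symm
  have : Algebra.FormallyEtale (MvPolynomial (Fin n) k) (Localization.AtPrime M) :=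
    .of_isLocalization M.primeCompl
  have : Algebra.FormallySmooth k (Localization.AtPrime M) := .comp _ (MvPolynomial (Fin n) k) _
  have : Module.Free (Localization.AtPrime M) (Ω[Localization.AtPrime M⁄k]) :=
    .of_equiv (KaehlerDifferential.tensorKaehlerEquivOfFormallyEtale k (MvPolynomial (Fin n) k) (Localization.AtPrime M))
  have : Module.Finite (Localization.AtPrime M) (Ω[Localization.AtPrime M⁄k]) :=
    .equiv (KaehlerDifferential.tensorKaehlerEquivOfFormallyEtale k (MvPolynomial (Fin n) k) (Localization.AtPrime M))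
  refine (formallySmooth_iff_regular (P := Localization.AtPrime M) ?_ hφ).symm
  -- the residue field of a closed point is `k`
  intro y
  obtain ⟨x, rfl⟩ := residue_surjective y
  obtain ⟨a, s, rfl⟩ := IsLocalization.exists_mk'_eq M.primeCompl x
  have hfin : ∀ z : MvPolynomial (Fin n) k, ∃ c : k, z - MvPolynomial.C c ∈ M := by
    intro z
    obtain ⟨c, hc⟩ := hres (π z)
    refine ⟨c, ?_⟩
    show π (z - MvPolynomial.C c) ∈ m
    rwa [map_sub, ← MvPolynomial.algebraMap_eq, π.commutes]
  obtain ⟨ca, hca⟩ := hfin a
  obtain ⟨cs, hcs⟩ := hfin (s : MvPolynomial (Fin n) k)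
  have hcs0 : cs ≠ 0 := fun h => s.2 (by simpa [h] using hcs)
  refine ⟨ca / cs, ?_⟩
  rw [IsScalarTower.algebraMap_apply k (Localization.AtPrime M) (ResidueField _)]
  refine ((Ideal.Quotient.eq).2 ?_).symm
  rw [IsScalarTower.algebraMap_apply k (MvPolynomial (Fin n) k) (Localization.AtPrime M)]
  have hu := IsLocalization.map_units (Localization.AtPrime M) s
  rw [← Ideal.unit_mul_mem_iff_mem _ hu, mul_sub, IsLocalization.mk'_spec'_mk, ← map_mul, ← map_sub,
    IsLocalization.AtPrime.to_map_mem_maximal_iff (Localization.AtPrime M) M]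
  have e : a - (s : MvPolynomial (Fin n) k) * algebraMap k _ (ca / cs) =
      (a - MvPolynomial.C ca) - ((s : MvPolynomial (Fin n) k) - MvPolynomial.C cs) * MvPolynomial.C (ca / cs) := by
    rw [MvPolynomial.algebraMap_eq, sub_mul, ← map_mul, mul_div_cancel₀ _ hcs0]; ring
  rw [e]
  exact sub_mem hca (Ideal.mul_mem_right _ _ hcs)


/-- The unit chart: regularity of the local ring at the unit is smoothness there. -/
theorem unit_chart {K : Type u} [Field K] (G : Over (Spec (CommRingCat.of K))) [GrpObj G]
    [LocallyOfFiniteType G.hom] [LocallyOfFinitePresentation G.hom] :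
    IsClosed ({η[G].left (closedPoint K)} : Set G.left) ∧
      (IsRegularLocalRing (G.left.presheaf.stalk (η[G].left (closedPoint K))) ↔
        η[G].left (closedPoint K) ∈ G.hom.smoothLocus) := by
  let e : G.left := η[G].left (closedPoint K)
  let T : (Spec (CommRingCat.of K)).Opens := ⊤
  have hT : IsAffineOpen T := isAffineOpen_top _
  obtain ⟨V, hV, heV, -⟩ := exists_isAffineOpen_mem_and_subset (X := G.left) (x := e) (U := ⊤) trivial
  let s : Spec (CommRingCat.of K) ⟶ G.left := η[G].left
  have hs : s ≫ G.hom = 𝟙 _ := Over.w η[G]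
  have hsV : T ≤ s ⁻¹ᵁ V := by
    rintro x -
    show s x ∈ V
    rwa [show x = closedPoint K from Subsingleton.elim (α := PrimeSpectrum K) _ _]
  have hVT : V ≤ G.hom ⁻¹ᵁ T := le_top
  let ε := s.appLE V T hsV
  have hε : G.hom.appLE T V hVT ≫ ε = 𝟙 _ := by
    rw [Scheme.Hom.appLE_comp_appLE]
    simp [hs]
    rfl
  let R := Γ(Spec (CommRingCat.of K), T)
  have hR : IsField R := MulEquiv.isField (Field.toIsField K)
    (Scheme.ΓSpecIso (CommRingCat.of K)).commRingCatIsoToRingEquiv.toMulEquiv
  letI : Field R := hR.toField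
  letI : Algebra R Γ(G.left, V) := (G.hom.appLE T V hVT).hom.toAlgebra
  have : Algebra.FiniteType R Γ(G.left, V) := G.hom.finiteType_appLE hT hV hVT
  let m := (hV.primeIdealOf ⟨e, heV⟩).asIdeal
  have hm : m = RingHom.ker ε.hom := by
    have h := IsAffineOpen.comap_primeIdealOf_appLE (f := s) (x := closedPoint K) V hV T hT hsV trivial
    have h' : Ideal.comap ε.hom (hT.primeIdealOf ⟨closedPoint K, trivial⟩).asIdeal = m :=
      congrArg PrimeSpectrum.asIdeal h
    have hbot : ∀ q : Ideal R, q.IsPrime → q = ⊥ := fun q hq =>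
      (Ideal.eq_bot_or_top q).resolve_right hq.ne_top
    rw [hbot _ (hT.primeIdealOf _).2] at h'
    exact h'.symm
  have hεc : ∀ c : R, ε (algebraMap R Γ(G.left, V) c) = c := fun c =>
    congr($hε c)
  have hres : ∀ b : Γ(G.left, V), ∃ c : R, b - algebraMap R Γ(G.left, V) c ∈ m := fun b =>
    ⟨ε b, by rw [hm, RingHom.mem_ker, map_sub, sub_eq_zero]; exact (hεc _).symm⟩
  have hmax : m.IsMaximal := by
    rw [hm]
    exact RingHom.ker_isMaximal_of_surjective ε.hom fun c => ⟨_, hεc c⟩
  refine ⟨?_, ?_⟩
  · have : JacobsonSpace G.left := LocallyOfFiniteType.jacobsonSpace G.hom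
    apply isClosed_singleton_of_isLocallyClosed_singleton
    have h : IsClosed ({hV.primeIdealOf ⟨e, heV⟩} : Set (Spec Γ(G.left, V))) :=
      (PrimeSpectrum.isClosed_singleton_iff_isMaximal _).2 hmax
    have h' := h.isLocallyClosed.image hV.fromSpec.isOpenEmbedding.isInducing
      hV.fromSpec.isOpenEmbedding.isOpen_range.isLocallyClosed
    erw [Set.image_singleton, hV.fromSpec_primeIdealOf] at h'
    exact h'
  · rw [Scheme.Hom.mem_smoothLocus, formallySmooth_stalkMap_iff T hT V hV hVT heV]
    have hloc := hV.isLocalization_stalk ⟨e, heV⟩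
    show IsRegularLocalRing (G.left.presheaf.stalk e) ↔ Algebra.FormallySmooth R (Localization.AtPrime m)
    rw [← regular_iff_smoothAt_of_residue m hres]
    let := TopCat.Presheaf.algebra_section_stalk G.left.presheaf ⟨e, heV⟩
    let i : G.left.presheaf.stalk e ≃+* Localization.AtPrime m :=
      haveI : IsLocalization m.primeCompl (G.left.presheaf.stalk e) := hloc
      (IsLocalization.algEquiv m.primeCompl (G.left.presheaf.stalk e) (Localization.AtPrime m)).toRingEquiv
    exact ⟨fun _ => IsRegularLocalRing.of_ringEquiv i, fun _ => IsRegularLocalRing.of_ringEquiv i.symm⟩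

variable {K : Type u} [Field K]

/-- Over an algebraically closed field a group scheme smooth somewhere is smooth. -/
theorem smooth_of_smoothLocus_algClosed [IsAlgClosed K] (G : Over (Spec (CommRingCat.of K))) [GrpObj G]
    [LocallyOfFiniteType G.hom] [LocallyOfFinitePresentation G.hom]
    (hne : (G.hom.smoothLocus : Set G.left).Nonempty) : Smooth G.hom := by
  have : JacobsonSpace G.left := LocallyOfFiniteType.jacobsonSpace G.hom
  rw [← Scheme.Hom.smoothLocus_eq_top_iff, ← TopologicalSpace.Opens.coe_eq_univ,
    ← not_ne_iff, ← Set.nonempty_compl]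
  intro H
  obtain ⟨x, hx, hxc⟩ := nonempty_inter_closedPoints H G.hom.smoothLocus.2.isClosed_compl.isLocallyClosed
  obtain ⟨y, hy, hyc⟩ := nonempty_inter_closedPoints hne G.hom.smoothLocus.2.isLocallyClosed
  let pt : ∀ x : G.left, IsClosed ({x} : Set G.left) → (𝟙_ (Over (Spec (CommRingCat.of K))) ⟶ G) :=
    fun x hx => Over.homMk (pointOfClosedPoint G.hom x hx) (pointOfClosedPoint_comp G.hom x hx)
  let α := transl ((pt x hxc)⁻¹ * pt y hyc)
  have hα : α.hom.left x = y := by
    obtain ⟨t⟩ : Nonempty (𝟙_ (Over (Spec (CommRingCat.of K)))).left :=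
      inferInstanceAs (Nonempty (PrimeSpectrum K))
    have h1 : pt x hxc ≫ α.hom = pt y hyc := by simp [α, transl, MonObj.comp_mul]
    have h2 := congrArg (fun k => k.left t) h1
    simp only [Over.comp_left, Scheme.Hom.comp_apply] at h2
    rwa [show (pt x hxc).left t = x from pointOfClosedPoint_apply G.hom x hxc t,
      show (pt y hyc).left t = y from pointOfClosedPoint_apply G.hom y hyc t] at h2
  apply hx
  have : x ∈ α.hom.left ⁻¹ᵁ G.hom.smoothLocus := by
    show α.hom.left x ∈ G.hom.smoothLocus
    rw [hα]; exact hy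
  rw [Scheme.Hom.preimage_smoothLocus_eq] at this
  rw! [Over.w α.hom] at this
  exact this

/-- A group scheme over a field which is smooth near one point is smooth. -/
theorem smooth_of_smoothLocus (G : Over (Spec (CommRingCat.of K))) [GrpObj G]
    [LocallyOfFiniteType G.hom] [LocallyOfFinitePresentation G.hom]
    (hne : (G.hom.smoothLocus : Set G.left).Nonempty) : Smooth G.hom := by
  let g := Spec.map (CommRingCat.ofHom (algebraMap K (AlgebraicClosure K)))
  have : Subsingleton (Spec (CommRingCat.of K)) := inferInstanceAs (Subsingleton (PrimeSpectrum K))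
  have : Surjective g := PointBase.surj _ g
  apply MorphismProperty.of_pullback_snd_of_descendsAlong
    (Q := @Surjective ⊓ @Flat ⊓ @QuasiCompact) (f := G.hom) (g := g)
  · exact ⟨⟨inferInstance, inferInstance⟩, inferInstance⟩
  · let G' : Over (Spec (CommRingCat.of (AlgebraicClosure K))) := Over.mk (pullback.snd G.hom g)
    let : GrpObj (Over.mk G.hom) := inferInstanceAs (GrpObj G)
    let : GrpObj G' := Over.grpObjMkPullbackSnd
    have : LocallyOfFiniteType G'.hom := inferInstanceAs (LocallyOfFiniteType (pullback.snd G.hom g))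
    have : LocallyOfFinitePresentation G'.hom :=
      inferInstanceAs (LocallyOfFinitePresentation (pullback.snd G.hom g))
    let U := G.hom.smoothLocus
    let U' : G'.left.Opens := pullback.fst G.hom g ⁻¹ᵁ U
    have hU : Smooth (U.ι ≫ G.hom) := by
      rw [← Scheme.Hom.smoothLocus_eq_top_iff, ← Scheme.Hom.preimage_smoothLocus_eq]
      exact Scheme.Opens.ι_preimage_self U
    have hU' : Smooth (U'.ι ≫ G'.hom) :=
      MorphismProperty.of_isPullback
        ((isPullback_morphismRestrict (pullback.fst G.hom g) U).flip.paste_horiz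
          (IsPullback.of_hasPullback G.hom g).flip |>.flip) hU
    refine smooth_of_smoothLocus_algClosed G' ?_
    obtain ⟨u, hu⟩ := hne
    obtain ⟨u', hu'⟩ := (pullback.fst G.hom g).surjective u
    refine ⟨u', ?_⟩
    have h1 : (⟨u', show pullback.fst G.hom g u' ∈ U by rw [hu']; exact hu⟩ : U') ∈
        U'.ι ⁻¹ᵁ G'.hom.smoothLocus := by
      rw [Scheme.Hom.preimage_smoothLocus_eq, Scheme.Hom.smoothLocus_eq_top]
      trivial
    exact h1

end Groth.Agent.GrpField
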