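import Groth.Agent.GrpField.SchDomFlat
import Groth.Agent.GrpField.SmoothPoint
import Groth.Agent.GammaProd.QAGroup
import Groth.Agent.QA.Props
import Groth.Agent.S0346

/-!
# A quasi-affine homomorphism of groups over a field is affine
-/

universe u

open CategoryTheory CategoryTheory.Limits MonoidalCategory CartesianMonoidalCategory MonObj GrpObj AlgebraicGeometry

set_option backward.isDefEq.respectTransparency false

namespace Groth.Agent.GrpField

variable {k : Type u} [Field k]

theorem isClosedImmersion_eta (H : Over (Spec (CommRingCat.of k))) [GrpObj H]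
    [LocallyOfFiniteType H.hom] :
    IsClosedImmersion (η[H] : 𝟙_ (Over (Spec (CommRingCat.of k))) ⟶ H).left := by
  have : IsLocallyNoetherian H.left := LocallyOfFiniteType.isLocallyNoetherian H.hom
  have hw : (η[H] : 𝟙_ (Over (Spec (CommRingCat.of k))) ⟶ H).left ≫ H.hom = 𝟙 _ := Over.w η[H]
  have : IsImmersion ((η[H] : 𝟙_ (Over (Spec (CommRingCat.of k))) ⟶ H).left ≫ H.hom) := by
    rw [hw]; infer_instance
  have : IsImmersion (η[H] : 𝟙_ (Over (Spec (CommRingCat.of k))) ⟶ H).left :=
    IsImmersion.of_comp _ H.hom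
  refine IsClosedImmersion.of_isPreimmersion _ ?_
  have hr : Set.range (η[H] : 𝟙_ (Over (Spec (CommRingCat.of k))) ⟶ H).left =
      {(η[H] : 𝟙_ (Over (Spec (CommRingCat.of k))) ⟶ H).left (IsLocalRing.closedPoint k)} := by
    ext h
    constructor
    · rintro ⟨z, rfl⟩
      exact congrArg _ (Subsingleton.elim (α := PrimeSpectrum k) z (IsLocalRing.closedPoint k))
    · rintro rfl
      exact ⟨_, rfl⟩
  rw [hr]
  exact (unit_chart H).1

theorem isSeparated_hom (H : Over (Spec (CommRingCat.of k))) [GrpObj H]
    [LocallyOfFiniteType H.hom] : IsSeparated H.hom :=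
  (S0346.result _ H).1.2 (isClosedImmersion_eta H)

variable {G H : Over (Spec (CommRingCat.of k))} [GrpObj G] [GrpObj H]
  [LocallyOfFiniteType G.hom] [LocallyOfFiniteType H.hom]

/-- the kernel of a quasi-affine homomorphism is affine over the field -/
theorem isAffineHom_kernel (g : G ⟶ H) [IsMonHom g] (hg : Mor2.IsQuasiAffine g.left) :
    IsAffineHom (pullback.snd g.left (η[H] : 𝟙_ (Over (Spec (CommRingCat.of k))) ⟶ H).left) := by
  let κ := (η[H] : 𝟙_ (Over (Spec (CommRingCat.of k))) ⟶ H).left
  have := isClosedImmersion_eta H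
  let p : pullback g.left κ ⟶ Spec (CommRingCat.of k) := pullback.snd g.left κ
  let N : Over (Spec (CommRingCat.of k)) := Over.mk p
  let i : N ⟶ G := Over.homMk (pullback.fst g.left κ) (by
    change pullback.fst g.left κ ≫ G.hom = pullback.snd g.left κ
    rw [← Over.w g, pullback.condition_assoc, show κ ≫ H.hom = 𝟙 _ from Over.w η[H], Category.comp_id])
  have : IsClosedImmersion i.left := inferInstanceAs (IsClosedImmersion (pullback.fst g.left κ))
  have hfac : ∀ (T : Over (Spec (CommRingCat.of k))) (a : T ⟶ G), a ≫ g = 1 → ∃ b : T ⟶ N, b ≫ i = a := by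
    intro T a ha
    have h1 : a.left ≫ g.left = T.hom ≫ κ := by
      rw [← Over.comp_left, ha, Hom.one_def, Over.comp_left]
      rfl
    exact ⟨Over.homMk (pullback.lift a.left T.hom h1) (pullback.lift_snd _ _ _), by
      ext1; exact pullback.lift_fst _ _ _⟩
  have hig : i ≫ g = 1 := by
    ext1
    rw [Hom.one_def, Over.comp_left, Over.comp_left]
    exact pullback.condition
  obtain ⟨hN, -⟩ := SchImg.exists_grpObj_of_div i (hfac _ η[G] (by
      rw [IsMonHom.one_hom, Hom.one_def, toUnit_unit, Category.id_comp]))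
    (fun T k₁ k₂ => hfac _ _ (by
      rw [MonObj.mul_comp, GrpObj.inv_comp, Category.assoc, Category.assoc, hig, MonObj.comp_one,
        MonObj.comp_one, inv_mul_cancel]))
  have : LocallyOfFiniteType N.hom := by
    rw [← Over.w i]; infer_instance
  have hq : ((⊤ : (pullback g.left κ).Opens) : Scheme.{u}).IsQuasiAffine :=
    (QA.baseChange hg κ).2 ⊤ (isAffineOpen_top (Spec (CommRingCat.of k)))
  have : N.left.IsQuasiAffine :=
    @Scheme.IsQuasiAffine.of_isAffineHom _ _ (Scheme.topIso (pullback g.left κ)).inv inferInstance hq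
  have : IsAffine N.left := GammaProd.isAffine_of_isQuasiAffine k N
  have : IsAffine (pullback g.left κ) := ‹IsAffine N.left›
  exact isAffineHom_of_isAffine p

/-- **A quasi-affine homomorphism is affine.** -/
theorem isAffineHom_of_isQuasiAffine (f : G ⟶ H) [IsMonHom f] (hf : Mor2.IsQuasiAffine f.left) :
    IsAffineHom f.left := by
  have : QuasiCompact f.left := hf.1
  obtain ⟨K, hK, i, g, hi, hg, hgi, hcl, hd, hqc, hsurj⟩ := SchImg.exists_image f
  have : LocallyOfFiniteType K.hom := by rw [← Over.w i]; infer_instance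
  have := flat_of_schDom g ((isSchemeTheoreticallyDominant_iff _).1 hd)
  have hga : Mor2.IsQuasiAffine g.left := QA.of_comp g.left i.left (by rwa [← Over.comp_left, hgi])
  have : IsAffineHom g.left := by
    refine MorphismProperty.of_pullback_snd_of_descendsAlong
      (Q := @Surjective ⊓ @Flat ⊓ @QuasiCompact) (f := g.left) (g := g.left)
      ⟨⟨inferInstance, inferInstance⟩, inferInstance⟩ ?_
    exact snd_self_iff g @IsAffineHom (isAffineHom_kernel g hga)
  rw [← hgi, Over.comp_left]
  infer_instance

end Groth.Agent.GrpField
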