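import Mathlib.AlgebraicGeometry.Morphisms.UniversallyOpen
import Mathlib.AlgebraicGeometry.Morphisms.ClosedImmersion
import Mathlib.AlgebraicGeometry.PullbackCarrier
import Mathlib.CategoryTheory.Monoidal.Cartesian.Over
import Mathlib.CategoryTheory.Monoidal.Cartesian.Grp

/-!
# Translations of group schemes over a point

For a group scheme over a one-point base, the underlying sets of points which are closed under the
group law on points with values in fields behave like subgroups of a topological group.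
-/

universe u

open CategoryTheory CategoryTheory.Limits MonoidalCategory CartesianMonoidalCategory MonObj AlgebraicGeometry
open scoped Topology

namespace Groth.Agent.GrpField

/-- A base all of whose field-valued points are universally open and surjective. -/
class PointBase (S : Scheme.{u}) : Prop where
  uopen : ∀ (K : Type u) [Field K] (f : Spec (CommRingCat.of K) ⟶ S), UniversallyOpen f
  surj : ∀ (K : Type u) [Field K] (f : Spec (CommRingCat.of K) ⟶ S), Surjective f

lemma subsingleton_spec_local_artin (A : Type u) [CommRing A] [IsArtinianRing A] [IsLocalRing A] :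
    Subsingleton (Spec (CommRingCat.of A)) :=
  ⟨fun x y => PrimeSpectrum.ext
    ((IsLocalRing.eq_maximalIdeal (IsArtinianRing.isMaximal_of_isPrime x.asIdeal)).trans
      (IsLocalRing.eq_maximalIdeal (IsArtinianRing.isMaximal_of_isPrime y.asIdeal)).symm)⟩

/-- A surjective closed immersion is universally open. -/
lemma universallyOpen_of_isClosedImmersion {X Y : Scheme.{u}} (f : X ⟶ Y) [IsClosedImmersion f]
    [Surjective f] : UniversallyOpen f := by
  refine ⟨fun X' Y' i₁ i₂ f' sq => ?_⟩
  have : IsClosedImmersion f' := MorphismProperty.of_isPullback sq.flip ‹_›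
  have : Surjective f' := MorphismProperty.of_isPullback sq.flip ‹_›
  exact (f'.isClosedEmbedding.isEmbedding.toHomeomorphOfSurjective f'.surjective).isOpenMap

instance (k : Type u) [Field k] : PointBase (Spec (CommRingCat.of k)) :=
  ⟨fun K _ f => inferInstance, fun K _ f => ⟨fun x =>
    have : Subsingleton (Spec (CommRingCat.of k)) := inferInstanceAs (Subsingleton (PrimeSpectrum k))
    ⟨Classical.arbitrary _, Subsingleton.elim _ _⟩⟩⟩

instance (priority := low) pointBase_of_isArtinianRing (A : Type u) [CommRing A] [IsArtinianRing A]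
    [IsLocalRing A] : PointBase (Spec (CommRingCat.of A)) := by
  have := subsingleton_spec_local_artin A
  have hs : ∀ (K : Type u) [Field K] (f : Spec (CommRingCat.of K) ⟶ Spec (CommRingCat.of A)),
      Surjective f := fun K _ f => ⟨fun x => ⟨Classical.arbitrary _, Subsingleton.elim _ _⟩⟩
  refine ⟨fun K _ f => ?_, hs⟩
  let r : Spec (CommRingCat.of (IsLocalRing.ResidueField A)) ⟶ Spec (CommRingCat.of A) :=
    Spec.map (CommRingCat.ofHom (IsLocalRing.residue A))
  have : IsClosedImmersion r := IsClosedImmersion.spec_of_surjective _ Ideal.Quotient.mk_surjective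
  have : Surjective r := hs _ r
  have : UniversallyOpen r := universallyOpen_of_isClosedImmersion r
  obtain ⟨φ, rfl⟩ := Spec.map_surjective f
  have hnil : ∀ a ∈ IsLocalRing.maximalIdeal A, φ.hom a = 0 := fun a ha => by
    obtain ⟨m, hm⟩ := (IsArtinianRing.isNilpotent_jacobson_bot (R := A))
    obtain ⟨n, hn⟩ : IsNilpotent a := ⟨m, by
      have : a ^ m ∈ (⊥ : Ideal A).jacobson ^ m :=
        Ideal.pow_mem_pow (by rwa [IsLocalRing.jacobson_eq_maximalIdeal ⊥ bot_ne_top]) m
      rwa [hm] at this⟩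
    exact eq_zero_of_pow_eq_zero ((map_pow φ.hom a n).symm.trans (by rw [hn, map_zero]))
  have e : φ = CommRingCat.ofHom (IsLocalRing.residue A) ≫
      CommRingCat.ofHom (Ideal.Quotient.lift (IsLocalRing.maximalIdeal A) φ.hom hnil) := by
    ext a; rfl
  rw [e, Spec.map_comp]
  infer_instance

variable {S : Scheme.{u}}

/-- A field-valued point of the base. -/
class IsPt (T : Over S) : Prop where
  single' : Subsingleton T.left
  uopen' : UniversallyOpen T.hom
  surj' : Surjective T.hom
  nonempty' : Nonempty T.left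

lemma IsPt.single (T : Over S) [IsPt T] : Subsingleton T.left := IsPt.single'

lemma IsPt.uopen (T : Over S) [IsPt T] : UniversallyOpen T.hom := IsPt.uopen'

lemma IsPt.surj (T : Over S) [IsPt T] : Surjective T.hom := IsPt.surj'

lemma IsPt.nonempty (T : Over S) [IsPt T] : Nonempty T.left := IsPt.nonempty'

variable [PointBase S]

instance isPt_mk {K : Type u} [Field K] (f : Spec (CommRingCat.of K) ⟶ S) : IsPt (Over.mk f) :=
  ⟨inferInstanceAs (Subsingleton (PrimeSpectrum K)), PointBase.uopen K f, PointBase.surj K f,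
    inferInstanceAs (Nonempty (PrimeSpectrum K))⟩

instance isPt_mk' {X : Scheme.{u}} (x : X) (f : Spec (X.residueField x) ⟶ S) : IsPt (Over.mk f) :=
  isPt_mk (K := X.residueField x) f

/-- Every point comes from a field-valued one. -/
lemma exists_pt {X : Over S} (x : X.left) :
    ∃ (T : Over S) (_ : IsPt T) (a : T ⟶ X), ∀ t, a.left t = x :=
  ⟨Over.mk (X.left.fromSpecResidueField x ≫ X.hom),
    inferInstance,
    Over.homMk (X.left.fromSpecResidueField x) rfl, fun t => Scheme.fromSpecResidueField_apply x t⟩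

/-- Two points have a common field of definition. -/
lemma exists_pt₂ {X Y : Over S} [Subsingleton S] (x : X.left) (y : Y.left) :
    ∃ (T : Over S) (_ : IsPt T) (a : T ⟶ X) (b : T ⟶ Y),
      (∀ t, a.left t = x) ∧ ∀ t, b.left t = y := by
  obtain ⟨z, h1, h2⟩ := Scheme.Pullback.exists_preimage_pullback (f := X.hom) (g := Y.hom) x y
    (Subsingleton.elim _ _)
  obtain ⟨T, hT, c, hc⟩ := exists_pt (X := X ⊗ Y) z
  exact ⟨T, hT, c ≫ fst X Y, c ≫ snd X Y,
    fun t => (congrArg _ (hc t)).trans h1, fun t => (congrArg _ (hc t)).trans h2⟩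

omit [PointBase S] in
lemma surjective_of_isPt {T T' : Over S} [IsPt T] [IsPt T'] (v : T' ⟶ T) :
    Function.Surjective v.left :=
  have := IsPt.single T
  have := IsPt.nonempty T'
  fun t => ⟨Classical.arbitrary _, Subsingleton.elim _ _⟩

/-- Lifting a point through a morphism, after extending the field. -/
lemma exists_lift_pt {X Y T : Over S} [IsPt T] (f : X ⟶ Y) (a : T ⟶ Y) (t : T.left)
    (h : a.left t ∈ Set.range f.left) :
    ∃ (T' : Over S) (_ : IsPt T') (v : T' ⟶ T) (x : T' ⟶ X), x ≫ f = v ≫ a := by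
  obtain ⟨x, hx⟩ := h
  obtain ⟨z, -, -⟩ := Scheme.Pullback.exists_preimage_pullback (f := f.left) (g := a.left) x t hx
  let X' := pullback f.left a.left
  let T' : Over S := Over.mk (X'.fromSpecResidueField z ≫ pullback.snd f.left a.left ≫ T.hom)
  refine ⟨T', inferInstance,
    Over.homMk (X'.fromSpecResidueField z ≫ pullback.snd f.left a.left) (Category.assoc _ _ _),
    Over.homMk (X'.fromSpecResidueField z ≫ pullback.fst f.left a.left) ?_, ?_⟩
  · change (_ ≫ _) ≫ X.hom = _ ≫ _ ≫ T.hom
    rw [← Over.w f, ← Over.w a, Category.assoc, pullback.condition_assoc]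
  · ext1
    change (_ ≫ _) ≫ f.left = (_ ≫ _) ≫ a.left
    rw [Category.assoc, Category.assoc, pullback.condition]

variable {G : Over S}

omit [PointBase S] in
lemma isOpenMap_fst {T : Over S} [IsPt T] : IsOpenMap (fst G T).left :=
  have := IsPt.uopen T
  (pullback.fst G.hom T.hom).isOpenMap

omit [PointBase S] in
lemma surjective_fst {T : Over S} [IsPt T] : Function.Surjective (fst G T).left :=
  have := IsPt.surj T
  (pullback.fst G.hom T.hom).surjective

variable [GrpObj G] {T : Over S}

/-- Right translation by a point. -/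
noncomputable def trR (c : T ⟶ G) : G ⊗ T ≅ G ⊗ T where
  hom := lift (fst G T * (snd G T ≫ c)) (snd G T)
  inv := lift (fst G T * (snd G T ≫ c)⁻¹) (snd G T)
  hom_inv_id := by
    apply CartesianMonoidalCategory.hom_ext
    · simp [MonObj.comp_mul, GrpObj.comp_inv]
    · simp
  inv_hom_id := by
    apply CartesianMonoidalCategory.hom_ext
    · simp [MonObj.comp_mul, GrpObj.comp_inv]
    · simp

/-- Left translation by a point. -/
noncomputable def trL (c : T ⟶ G) : G ⊗ T ≅ G ⊗ T where
  hom := lift ((snd G T ≫ c) * fst G T) (snd G T)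
  inv := lift ((snd G T ≫ c)⁻¹ * fst G T) (snd G T)
  hom_inv_id := by
    apply CartesianMonoidalCategory.hom_ext
    · simp [MonObj.comp_mul, GrpObj.comp_inv]
    · simp
  inv_hom_id := by
    apply CartesianMonoidalCategory.hom_ext
    · simp [MonObj.comp_mul, GrpObj.comp_inv]
    · simp

/-- The inversion followed by a translation: `x ↦ x⁻¹ c`. -/
noncomputable def trI (c : T ⟶ G) : G ⊗ T ≅ G ⊗ T where
  hom := lift ((fst G T)⁻¹ * (snd G T ≫ c)) (snd G T)
  inv := lift ((snd G T ≫ c) * (fst G T)⁻¹) (snd G T)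
  hom_inv_id := by
    apply CartesianMonoidalCategory.hom_ext
    · simp [MonObj.comp_mul, GrpObj.comp_inv]
    · simp
  inv_hom_id := by
    apply CartesianMonoidalCategory.hom_ext
    · simp [MonObj.comp_mul, GrpObj.comp_inv]
    · simp

/-- the homeomorphism underlying an automorphism -/
noncomputable def homeo {X : Over S} (e : X ≅ X) : X.left ≃ₜ X.left :=
  ((Over.forget S).mapIso e).hom.homeomorph

omit [PointBase S] [GrpObj G] in
lemma homeo_apply {X : Over S} (e : X ≅ X) (x : X.left) : homeo e x = e.hom.left x := rfl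

omit [PointBase S] [GrpObj G] in
lemma homeo_symm {X : Over S} (e : X ≅ X) : homeo e.symm = (homeo e).symm := by
  apply Homeomorph.ext; intro x
  apply (homeo e).injective
  rw [Homeomorph.apply_symm_apply, homeo_apply, homeo_apply, ← Scheme.Hom.comp_apply,
    ← Over.comp_left, Iso.symm_hom, Iso.inv_hom_id]
  rfl

/-- A set of points closed under the group law on field-valued points. -/
structure IsSubgroupSet (A : Set G.left) : Prop where
  nonempty : A.Nonempty
  mul : ∀ ⦃T : Over S⦄ [IsPt T] (a b : T ⟶ G),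
    (∀ t, a.left t ∈ A) → (∀ t, b.left t ∈ A) → ∀ t, (a * b).left t ∈ A
  inv : ∀ ⦃T : Over S⦄ [IsPt T] (a : T ⟶ G), (∀ t, a.left t ∈ A) → ∀ t, a⁻¹.left t ∈ A

omit [GrpObj G] [PointBase S] in
lemma mem_pre_of_forall {T : Over S} [IsPt T] {A : Set G.left} (y : (G ⊗ T).left)
    {T' : Over S} (w : T' ⟶ G ⊗ T) (hw : ∀ t, w.left t = y) :
    (∀ t, (w ≫ fst G T).left t ∈ A) ↔ ((fst G T).left y ∈ A ∨ IsEmpty T'.left) := by
  by_cases h : IsEmpty T'.left
  · exact ⟨fun _ => Or.inr h, fun _ t => (h.false t).elim⟩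
  · obtain ⟨t₀⟩ := not_isEmpty_iff.1 h
    constructor
    · intro h'
      left
      have := h' t₀
      rwa [Over.comp_left, Scheme.Hom.comp_apply, hw] at this
    · rintro (h' | h') t
      · rwa [Over.comp_left, Scheme.Hom.comp_apply, hw]
      · exact (h'.false t).elim

/-- Translations preserve preimages of sets stable under multiplication by the point. -/
lemma maps_pre [IsPt T] {A B : Set G.left} {e : G ⊗ T ≅ G ⊗ T}
    (h : ∀ ⦃T' : Over S⦄ [IsPt T'] (w : T' ⟶ G ⊗ T),
      (∀ t, (w ≫ fst G T).left t ∈ A) → ∀ t, (w ≫ e.hom ≫ fst G T).left t ∈ B) :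
    Set.MapsTo (homeo e) ((fst G T).left ⁻¹' A) ((fst G T).left ⁻¹' B) := by
  intro y hy
  obtain ⟨T', hT', w, hw⟩ := exists_pt y
  obtain ⟨t₀⟩ := IsPt.nonempty T'
  have := h w ((mem_pre_of_forall y w hw).2 (Or.inl hy)) t₀
  rw [Over.comp_left, Over.comp_left, Scheme.Hom.comp_apply, Scheme.Hom.comp_apply, hw] at this
  exact this

omit [PointBase S] [GrpObj G] in
lemma preimage_closure [IsPt T] (A : Set G.left) :
    (fst G T).left ⁻¹' closure A = closure ((fst G T).left ⁻¹' A) :=
  isOpenMap_fst.preimage_closure_eq_closure_preimage (fst G T).left.continuous A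

/-- The closure of a subgroup set is a subgroup set. -/
theorem IsSubgroupSet.closure {A : Set G.left} (hA : IsSubgroupSet A) :
    IsSubgroupSet (_root_.closure A) := by
  have hl : ∀ {T : Over S} [IsPt T] (c : T ⟶ G), (∀ t, c.left t ∈ A) →
      Set.MapsTo (homeo (trL c)) ((fst G T).left ⁻¹' _root_.closure A)
        ((fst G T).left ⁻¹' _root_.closure A) := by
    intro T _ c hc
    rw [preimage_closure]
    refine Set.MapsTo.closure (maps_pre fun T' _ w hw => ?_) (homeo _).continuous
    rw [show w ≫ (trL c).hom ≫ fst G T = ((w ≫ snd G T) ≫ c) * (w ≫ fst G T) by simp [trL, MonObj.comp_mul]]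
    exact hA.mul _ _ (fun t => hc _) hw
  have h1 : ∀ {T : Over S} [IsPt T] (a b : T ⟶ G), (∀ t, a.left t ∈ A) →
      (∀ t, b.left t ∈ _root_.closure A) → ∀ t, (a * b).left t ∈ _root_.closure A := by
    intro T _ a b ha hb t
    have hy : (fst G T).left ((lift b (𝟙 T)).left t) ∈ _root_.closure A := by
      rw [← Scheme.Hom.comp_apply, ← Over.comp_left, lift_fst]; exact hb t
    have := hl a ha hy
    rw [Set.mem_preimage, homeo_apply, ← Scheme.Hom.comp_apply, ← Scheme.Hom.comp_apply,
      ← Over.comp_left, ← Over.comp_left] at this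
    convert this using 4
    simp [trL, MonObj.comp_mul]
  refine ⟨hA.nonempty.closure, fun T _ a b ha hb t => ?_, fun T _ a ha t => ?_⟩
  · have hr : Set.MapsTo (homeo (trR b)) ((fst G T).left ⁻¹' _root_.closure A)
        ((fst G T).left ⁻¹' _root_.closure A) := by
      rw [preimage_closure]
      intro y hy
      have : homeo (trR b) y ∈ _root_.closure ((fst G T).left ⁻¹' _root_.closure A) := by
        refine map_mem_closure (homeo (trR b)).continuous hy ?_
        refine maps_pre fun T' _ w hw => ?_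
        rw [show w ≫ (trR b).hom ≫ fst G T = (w ≫ fst G T) * ((w ≫ snd G T) ≫ b) by simp [trR, MonObj.comp_mul]]
        exact h1 _ _ hw (fun t => hb _)
      rwa [(isClosed_closure.preimage (fst G T).left.continuous).closure_eq, preimage_closure] at this
    have hy : (fst G T).left ((lift a (𝟙 T)).left t) ∈ _root_.closure A := by
      rw [← Scheme.Hom.comp_apply, ← Over.comp_left, lift_fst]; exact ha t
    have := hr hy
    rw [Set.mem_preimage, homeo_apply, ← Scheme.Hom.comp_apply, ← Scheme.Hom.comp_apply,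
      ← Over.comp_left, ← Over.comp_left] at this
    convert this using 4
    simp [trR, MonObj.comp_mul]
  · have hmap : Set.MapsTo (ι[G]).left A A := by
      intro x hx
      obtain ⟨T', hT', w, hw⟩ := exists_pt x
      obtain ⟨t₀⟩ := IsPt.nonempty T'
      have := hA.inv w (fun s => by rw [hw]; exact hx) t₀
      rw [Hom.inv_def, Over.comp_left, Scheme.Hom.comp_apply, hw] at this
      exact this
    rw [Hom.inv_def, Over.comp_left, Scheme.Hom.comp_apply]
    exact map_mem_closure (ι[G]).left.continuous (ha t) hmap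

/-- A subgroup set containing a dense open subset of its closure is closed. -/
theorem IsSubgroupSet.isClosed {A U : Set G.left} (hA : IsSubgroupSet A) (hUA : U ⊆ A)
    (hopen : ∃ O, IsOpen O ∧ U = _root_.closure A ∩ O) (hdense : _root_.closure A ⊆ _root_.closure U) :
    IsClosed A := by
  refine isClosed_of_closure_subset fun c hc => ?_
  obtain ⟨T, hT, γ, hγ⟩ := exists_pt c
  obtain ⟨t⟩ := IsPt.nonempty T
  have hC := hA.closure
  set P := (fst G T).left ⁻¹' _root_.closure A with hP
  have hγA : ∀ s, γ.left s ∈ _root_.closure A := fun s => by rw [hγ]; exact hc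
  have hL : Set.MapsTo (homeo (trR γ)) P P := maps_pre fun T' _ w hw => by
    rw [show w ≫ (trR γ).hom ≫ fst G T = (w ≫ fst G T) * ((w ≫ snd G T) ≫ γ) by simp [trR, MonObj.comp_mul]]
    exact hC.mul _ _ hw (fun t => hγA _)
  have hL' : Set.MapsTo (homeo (trR γ)).symm P P := by
    have : Set.MapsTo (homeo (trR γ).symm) P P := maps_pre fun T' _ w hw => by
      rw [show w ≫ (trR γ).symm.hom ≫ fst G T = (w ≫ fst G T) * ((w ≫ snd G T) ≫ γ)⁻¹ by
        simp [trR, MonObj.comp_mul, GrpObj.comp_inv]]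
      exact hC.mul _ _ hw (hC.inv _ fun t => hγA _)
    rwa [homeo_symm] at this
  obtain ⟨O, hO, hU⟩ := hopen
  let O' := (fst G T).left ⁻¹' O
  have hd : P ⊆ _root_.closure (P ∩ O') := by
    rw [hP, ← Set.preimage_inter, ← preimage_closure, ← hU]
    exact Set.preimage_mono hdense
  let y₀ := (lift γ (𝟙 T)).left t
  have hy₀ : y₀ ∈ P := by
    change (fst G T).left ((lift γ (𝟙 T)).left t) ∈ _root_.closure A
    rw [← Scheme.Hom.comp_apply, ← Over.comp_left, lift_fst]
    exact hγA t
  obtain ⟨y₁, hy₁', hy₁⟩ := mem_closure_iff.1 (hd hy₀) Set.univ isOpen_univ trivial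
  obtain ⟨y, hy, hyP⟩ := mem_closure_iff.1 (hd (hL' hy₁.1)) _
    (hO.preimage (fst G T).left.continuous |>.preimage (homeo (trR γ)).continuous)
    (show homeo (trR γ) ((homeo (trR γ)).symm y₁) ∈ O' by rw [Homeomorph.apply_symm_apply]; exact hy₁.2)
  have h1 : (fst G T).left y ∈ A := hUA (hU ▸ ⟨hyP.1, hyP.2⟩)
  have h2 : (fst G T).left (homeo (trR γ) y) ∈ A := hUA (hU ▸ ⟨hL hyP.1, hy⟩)
  obtain ⟨T', hT', w, hw⟩ := exists_pt y
  obtain ⟨t'⟩ := IsPt.nonempty T'
  have ha : ∀ s, (w ≫ fst G T).left s ∈ A := fun s => by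
    rw [Over.comp_left, Scheme.Hom.comp_apply, hw]; exact h1
  have hb : ∀ s, (w ≫ (trR γ).hom ≫ fst G T).left s ∈ A := fun s => by
    rw [Over.comp_left, Over.comp_left, Scheme.Hom.comp_apply, Scheme.Hom.comp_apply, hw]; exact h2
  have := hA.mul _ _ (hA.inv _ ha) hb t'
  rw [show (w ≫ fst G T)⁻¹ * (w ≫ (trR γ).hom ≫ fst G T) = (w ≫ snd G T) ≫ γ by simp [trR, MonObj.comp_mul],
    Over.comp_left, Scheme.Hom.comp_apply, hγ] at this
  exact this

/-- An open subgroup set is closed. -/
theorem IsSubgroupSet.isClosed_of_isOpen {A : Set G.left} (hA : IsSubgroupSet A) (h : IsOpen A) :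
    IsClosed A :=
  hA.isClosed Set.Subset.rfl ⟨A, h, (Set.inter_eq_right.2 subset_closure).symm⟩ Set.Subset.rfl

/-- A locally closed subgroup set is closed. -/
theorem IsSubgroupSet.isClosed_of_isLocallyClosed {A : Set G.left} (hA : IsSubgroupSet A)
    (h : IsLocallyClosed A) : IsClosed A := by
  refine hA.isClosed Set.Subset.rfl ?_ Set.Subset.rfl
  obtain ⟨U, Z, hU, hZ, rfl⟩ := h
  exact ⟨U, hU, (Set.Subset.antisymm (fun x hx => ⟨subset_closure hx, hx.1⟩)
    (fun x hx => ⟨hx.2, (closure_minimal Set.inter_subset_right hZ) hx.1⟩))⟩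

/-- The range of a homomorphism. -/
theorem isSubgroupSet_range {H : Over S} [GrpObj H] (ψ : H ⟶ G) [IsMonHom ψ] [Nonempty S] :
    IsSubgroupSet (Set.range ψ.left) := by
  have hr : ∀ {T T' : Over S} [IsPt T] [IsPt T'] (v : T' ⟶ T) (a : T ⟶ G) (x : T' ⟶ H),
      x ≫ ψ = v ≫ a → ∀ t, a.left t ∈ Set.range ψ.left := by
    intro T T' _ _ v a x hx t
    obtain ⟨t', rfl⟩ := surjective_of_isPt v t
    refine ⟨x.left t', ?_⟩
    rw [← Scheme.Hom.comp_apply, ← Scheme.Hom.comp_apply, ← Over.comp_left, ← Over.comp_left, hx]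
  refine ⟨⟨_, η[H].left (Classical.arbitrary S : (𝟙_ (Over S)).left), rfl⟩, fun T _ a b ha hb t => ?_, fun T _ a ha t => ?_⟩
  · obtain ⟨T₁, _, v₁, x₁, h₁⟩ := exists_lift_pt ψ a t (ha t)
    obtain ⟨t₁⟩ := IsPt.nonempty T₁
    obtain ⟨T₂, _, v₂, x₂, h₂⟩ := exists_lift_pt ψ (v₁ ≫ b) t₁ (hb _)
    refine hr (v₂ ≫ v₁) (a * b) ((v₂ ≫ x₁) * x₂) ?_ t
    rw [MonObj.mul_comp, Category.assoc, h₁, h₂, comp_mul]
    simp only [Category.assoc]
  · obtain ⟨T₁, _, v₁, x₁, h₁⟩ := exists_lift_pt ψ a t (ha t)
    refine hr v₁ a⁻¹ x₁⁻¹ ?_ t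
    rw [GrpObj.inv_comp, h₁, GrpObj.comp_inv]

/-- Dense opens multiply to everything. -/
theorem exists_mul_eq [Subsingleton S] {U V : Set G.left} (hU : IsOpen U) (hU' : Dense U)
    (hV : IsOpen V) (hV' : Dense V) (g : G.left) :
    ∃ z : (G ⊗ G).left, (fst G G).left z ∈ U ∧ (snd G G).left z ∈ V ∧ μ[G].left z = g := by
  obtain ⟨T, hT, γ, hγ⟩ := exists_pt g
  obtain ⟨t⟩ := IsPt.nonempty T
  let p := (fst G T).left
  have hUd : Dense (p ⁻¹' U) := hU'.preimage isOpenMap_fst
  have hVd : Dense (homeo (trI γ) ⁻¹' (p ⁻¹' V)) :=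
    (hV'.preimage isOpenMap_fst).preimage (homeo _).isOpenMap
  have : Nonempty (G ⊗ T).left := ⟨(lift γ (𝟙 T)).left t⟩
  obtain ⟨y, hy₁, hy₂⟩ := (hUd.inter_of_isOpen_left hVd (hU.preimage p.continuous)).nonempty
  obtain ⟨T', hT', w, hw⟩ := exists_pt y
  obtain ⟨t'⟩ := IsPt.nonempty T'
  refine ⟨(lift (w ≫ fst G T) (w ≫ (trI γ).hom ≫ fst G T)).left t', ?_, ?_, ?_⟩
  · rw [← Scheme.Hom.comp_apply, ← Over.comp_left, lift_fst, Over.comp_left, Scheme.Hom.comp_apply, hw]
    exact hy₁
  · rw [← Scheme.Hom.comp_apply, ← Over.comp_left, lift_snd, Over.comp_left, Over.comp_left,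
      Scheme.Hom.comp_apply, Scheme.Hom.comp_apply, hw]
    exact hy₂
  · rw [← Scheme.Hom.comp_apply, ← Over.comp_left, ← Hom.mul_def,
      show (w ≫ fst G T) * (w ≫ (trI γ).hom ≫ fst G T) = (w ≫ snd G T) ≫ γ by
        simp [trI, MonObj.comp_mul, GrpObj.comp_inv], Over.comp_left, Scheme.Hom.comp_apply, hγ]

end Groth.Agent.GrpField
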