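import Groth.Agent.GrpField.AffImage
import Groth.Agent.FinHopf.Sub
import Groth.Agent.FinHopf.GrpScheme
import Groth.Agent.HopfRange.Sub
import Groth.Agent.GrpField.QAAffine

/-!
# The image of an algebraic group in an affine group is algebraic
-/

universe u

open CategoryTheory CategoryTheory.Limits MonoidalCategory CartesianMonoidalCategory MonObj GrpObj AlgebraicGeometry
open TensorProduct

set_option backward.isDefEq.respectTransparency false

namespace Groth.Agent.GrpField.AffImage

variable {k : Type u} [Field k]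

/-- the spectrum of a sub-Hopf algebra -/
theorem exists_spec_sub {A : CommRingCat.{u}} [HopfAlgebra k A] (B : Subalgebra k A)
    (hB : Groth.Agent.FlatSub.IsSubHopf k B) (hfg : B.FG) :
    ∃ (D : Over (Spec (CommRingCat.of k))) (_ : GrpObj D)
      (v : (Spec A).asOver (Spec (CommRingCat.of k)) ⟶ D), IsMonHom v ∧ LocallyOfFiniteType D.hom ∧
      IsAffine D.left ∧ v.left.ker = ⊥ ∧
      ∀ a ∈ B, ∃ b, v.left.appTop b = (Scheme.ΓSpecIso A).inv a := by
  have hΔ : ∀ b ∈ B, CoalgebraStruct.comul (R := k) b ∈ (FinHopf.subIncl₂ B).range := by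
    intro b hb
    obtain ⟨t, ht⟩ := hB.1 b hb
    exact ⟨t, ht⟩
  letI hH : HopfAlgebra k B := FinHopf.subHopf B hΔ hB.2
  let φ : B →ₐc[k] A := BialgHom.ofAlgHom B.val (by ext b; rfl) (FinHopf.subIncl₂_comp_subComul B hΔ)
  let B' : CommRingCat.{u} := CommRingCat.of B
  let D := (Spec B').asOver (Spec (CommRingCat.of k))
  let m := (hopfSpec (CommRingCat.of k)).map (CommHopfAlgCat.ofHom φ).op
  let v : (Spec A).asOver (Spec (CommRingCat.of k)) ⟶ D := m.hom.hom
  have : Algebra.FiniteType k B := B.fg_iff_finiteType.1 hfg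
  have hv : v.left = Spec.map (CommRingCat.ofHom B.val.toRingHom) := rfl
  refine ⟨D, inferInstance, v, m.hom.isMonHom_hom, ?_, inferInstanceAs (IsAffine (Spec B')), ?_, ?_⟩
  · exact inferInstanceAs (LocallyOfFiniteType (Spec B' ↘ Spec (CommRingCat.of k)))
  · suffices hs : (Spec.map (CommRingCat.ofHom B.val.toRingHom) : Spec A ⟶ Spec B').ker = ⊥ from
      hv ▸ hs
    have : QuasiCompact (Spec.map (CommRingCat.ofHom B.val.toRingHom) : Spec A ⟶ Spec B') := inferInstance
    refine Scheme.IdealSheafData.ext_of_isAffine ?_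
    rw [Scheme.Hom.ker_apply, Scheme.IdealSheafData.ideal_bot, Pi.bot_apply]
    refine (RingHom.injective_iff_ker_eq_bot _).1 ?_
    have hn : Function.Injective (Spec.map (CommRingCat.ofHom B.val.toRingHom)).appTop.hom := by
      rw [show (Spec.map (CommRingCat.ofHom B.val.toRingHom)).appTop =
        (Scheme.ΓSpecIso B').hom ≫ CommRingCat.ofHom B.val.toRingHom ≫ (Scheme.ΓSpecIso A).inv from by
          rw [← Category.assoc, Iso.eq_comp_inv]
          exact Scheme.ΓSpecIso_naturality _]
      simp only [CommRingCat.hom_comp, RingHom.coe_comp]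
      exact ((ConcreteCategory.bijective_of_isIso (Scheme.ΓSpecIso A).inv).1.comp
        Subtype.val_injective).comp (ConcreteCategory.bijective_of_isIso (Scheme.ΓSpecIso B').hom).1
    exact hn
  · intro a ha
    refine ⟨(Scheme.ΓSpecIso B').inv ⟨a, ha⟩, ?_⟩
    rw [hv]
    erw [← CommRingCat.comp_apply, ← Scheme.ΓSpecIso_inv_naturality]
    rfl

/-- **Algebraicity of a schematically dominated affine group.** -/
theorem flat_surjective_lft {G C : Over (Spec (CommRingCat.of k))} [GrpObj G] [GrpObj C]
    [LocallyOfFiniteType G.hom] [QuasiCompact G.hom] [IsAffine C.left] (u : G ⟶ C) [IsMonHom u]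
    (hker : u.left.ker = ⊥) :
    Flat u.left ∧ Surjective u.left ∧ LocallyOfFiniteType C.hom := by
  classical
  obtain ⟨s, hs⟩ := exists_finset_kernel u
  obtain ⟨A, hA, e, he⟩ := FinHopf.exists_hopf (R := CommRingCat.of k) C
  have : IsIso e.inv.left := inferInstanceAs (IsIso ((Over.forget _).map e.inv))
  have : IsMonHom e.inv := inferInstance
  let t : Γ(C.left, ⊤) → A := fun a => (Scheme.ΓSpecIso A).hom (e.hom.left.appTop a)
  obtain ⟨B, hsB, hfg, hB⟩ := HopfRange.exists_fg_isSubHopf (k := k) (A := A) (s.image t)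
  obtain ⟨D, hD, v₀, hv₀, hlft, haff, hvker, hrange⟩ := exists_spec_sub B hB hfg
  let v := e.inv ≫ v₀
  have hsur : ∀ a ∈ s, ∃ b, v.left.appTop b = a := by
    intro a ha
    obtain ⟨b, hb⟩ := hrange (t a) (hsB (Finset.mem_image_of_mem t ha))
    refine ⟨b, ?_⟩
    simp only [v, Over.comp_left, appTop_comp_apply']
    rw [hb]
    simp only [t, Iso.hom_inv_id_apply]
    rw [← appTop_comp_apply', ← Over.comp_left, e.inv_hom_id]
    rfl
  have hk := hs D v hsur
  have : CompactSpace G.left := QuasiCompact.compactSpace_of_compactSpace G.hom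
  have : IsAffineHom D.hom := isAffineHom_of_isAffine D.hom
  have : QuasiCompact ((u ≫ v).left ≫ D.hom) := by rw [Over.w]; infer_instance
  have hqc : QuasiCompact (u ≫ v).left := QuasiCompact.of_comp (u ≫ v).left D.hom
  have hgk : (u ≫ v).left.ker = ⊥ := by
    have h1 : ((u.left ≫ e.inv.left) ≫ v₀.left).ker = ⊥ := by
      rw [Scheme.Hom.ker_comp, Scheme.Hom.ker_comp, hker, Scheme.IdealSheafData.map_bot,
        e.inv.left.ker_eq_bot, Scheme.IdealSheafData.map_bot, hvker]
    simpa [v] using h1
  have hgflat : Flat (u ≫ v).left := flat_of_schDom (u ≫ v) hgk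
  have : IsSchemeTheoreticallyDominant (u ≫ v).left := (isSchemeTheoreticallyDominant_iff _).2 hgk
  have : IsDominant (u ≫ v).left := inferInstance
  have : Surjective (u ≫ v).left := SchImg.surjective_of_isDominant (u ≫ v)
  have : IsSeparated G.hom := isSeparated_hom G
  have : IsAffineHom C.hom := isAffineHom_of_isAffine C.hom
  have : QuasiCompact (u.left ≫ C.hom) := by rw [Over.w]; infer_instance
  have : QuasiCompact u.left := QuasiCompact.of_comp u.left C.hom
  have hiso : IsIso v.left := isIso_of_kernel u v hker hk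
  refine ⟨?_, ?_, ?_⟩
  · rw [← MorphismProperty.cancel_right_of_respectsIso (P := @Flat) u.left v.left, ← Over.comp_left]
    exact hgflat
  · rw [← MorphismProperty.cancel_right_of_respectsIso (P := @Surjective) u.left v.left, ← Over.comp_left]
    infer_instance
  · rw [← Over.w v]
    infer_instance

end Groth.Agent.GrpField.AffImage

namespace Groth.Agent.GrpField.AffImage

variable {k : Type u} [Field k]

/-- factorisation of a homomorphism to an affine group through its image -/
theorem exists_factor_affine {G G' : Over (Spec (CommRingCat.of k))} [GrpObj G] [GrpObj G']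
    [LocallyOfFiniteType G.hom] [QuasiCompact G.hom] [IsAffine G'.left] (u : G ⟶ G') [IsMonHom u] :
    ∃ (C : Over (Spec (CommRingCat.of k))) (_ : GrpObj C) (p : G ⟶ C) (i : C ⟶ G'),
      IsMonHom p ∧ IsMonHom i ∧ p ≫ i = u ∧ Surjective p.left ∧ Flat p.left ∧
      IsClosedImmersion i.left ∧ IsAffine C.left ∧
      (Function.Injective u.left.appTop.hom → IsIso i) := by
  have : IsAffineHom G'.hom := isAffineHom_of_isAffine G'.hom
  have : QuasiCompact (u.left ≫ G'.hom) := by rw [Over.w]; infer_instance
  have : QuasiCompact u.left := QuasiCompact.of_comp u.left G'.hom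
  obtain ⟨C, hC, i, p, hi, hp, hpi, hcl, hd, hqc, hsurj⟩ := SchImg.exists_image u
  have : IsAffine C.left := isAffine_of_isAffineHom i.left
  obtain ⟨hflat, -, -⟩ := flat_surjective_lft p ((isSchemeTheoreticallyDominant_iff _).1 hd)
  refine ⟨C, hC, p, i, hp, hi, hpi, hsurj, hflat, hcl, ‹_›, fun hinj => ?_⟩
  have hsurj' : Function.Surjective i.left.appTop.hom :=
    ((isClosedImmersion_iff_isAffineHom (f := i.left)).1 hcl).2 ⊤ (isAffineOpen_top _)
  have hinj' : Function.Injective i.left.appTop.hom := by
    rw [← hpi, Over.comp_left, Scheme.Hom.comp_appTop, CommRingCat.hom_comp] at hinj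
    exact Function.Injective.of_comp (f := p.left.appTop.hom) hinj
  have : IsIso i.left.appTop :=
    (ConcreteCategory.isIso_iff_bijective _).2 ⟨hinj', hsurj'⟩
  have : IsIso i.left := by
    have h := Scheme.isoSpec_hom_naturality i.left
    rw [← Iso.comp_inv_eq] at h
    rw [← h]; infer_instance
  exact (Over.isoMk (asIso i.left) (Over.w i)).isIso_hom

end Groth.Agent.GrpField.AffImage
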