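import Groth.Agent.GrpField.AffImage
import Groth.Agent.GrpField.QAAffine

/-!
# A schematically dominant homomorphism of an algebraic group to a limit of algebraic groups

The kernels of the components stabilise, so the limit is the image in one algebraic stage.
-/

universe u

open CategoryTheory CategoryTheory.Limits MonoidalCategory CartesianMonoidalCategory MonObj GrpObj AlgebraicGeometry

set_option backward.isDefEq.respectTransparency false

namespace Groth.Agent.GrpField.LimImage

variable {k : Type u} [Field k]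

/-- the ideal of the kernel of a homomorphism -/
noncomputable def kerIdeal {G D : Over (Spec (CommRingCat.of k))} [GrpObj D] (g : G ⟶ D) :
    G.left.IdealSheafData :=
  (pullback.fst g.left (η[D] : 𝟙_ (Over (Spec (CommRingCat.of k))) ⟶ D).left).ker

theorem eq_one_iff_le {G D : Over (Spec (CommRingCat.of k))} [GrpObj D] [LocallyOfFiniteType D.hom]
    (g : G ⟶ D) {T : Over (Spec (CommRingCat.of k))} (z : T ⟶ G) :
    z ≫ g = 1 ↔ kerIdeal g ≤ z.left.ker := by
  let κ := (η[D] : 𝟙_ (Over (Spec (CommRingCat.of k))) ⟶ D).left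
  have := isClosedImmersion_eta D
  have : IsClosedImmersion (pullback.fst g.left κ) := MorphismProperty.pullback_fst g.left κ inferInstance
  have h1 : (1 : T ⟶ D).left = T.hom ≫ κ := by
    rw [Hom.one_def, Over.comp_left]; rfl
  constructor
  · intro h
    have w : z.left ≫ g.left = T.hom ≫ κ := by rw [← Over.comp_left, h, h1]
    have e : pullback.lift z.left T.hom w ≫ pullback.fst g.left κ = z.left := pullback.lift_fst _ _ _
    rw [← e]
    exact Scheme.Hom.le_ker_comp _ _
  · intro h
    let a := IsClosedImmersion.lift (pullback.fst g.left κ) z.left h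
    have ha : a ≫ pullback.fst g.left κ = z.left := IsClosedImmersion.lift_fac _ _ _
    ext1
    rw [h1, Over.comp_left]
    have e1 : z.left ≫ g.left = (a ≫ pullback.snd g.left κ) ≫ κ := by
      rw [← ha, Category.assoc, Category.assoc, pullback.condition]
    have e2 : a ≫ pullback.snd g.left κ = T.hom := by
      have e3 := congrArg (· ≫ D.hom) e1
      simp only [Category.assoc] at e3
      rw [Over.w g, Over.w z] at e3
      rw [e3]
      erw [Over.w η[D]]
      simp
    rw [e1, e2]

variable {J : Type u} [SmallCategory J] {D : J ⥤ Over (Spec (CommRingCat.of k))}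
  [∀ j, GrpObj (D.obj j)]

/-- the identity of a limit of algebraic groups is a closed immersion -/
theorem isSeparated_limit {c : Cone D} (hc : IsLimit c) [GrpObj c.pt]
    [∀ j, IsMonHom (M := c.pt) (N := D.obj j) (c.π.app j)]
    (hD : ∀ j, LocallyOfFiniteType (D.obj j).hom) : IsSeparated c.pt.hom := by
  refine (S0346.result _ c.pt).1.2 ?_
  let I : c.pt.left.IdealSheafData := ⨆ j, kerIdeal (c.π.app j)
  let C₁ : Over (Spec (CommRingCat.of k)) := Over.mk (I.subschemeι ≫ c.pt.hom)
  let i : C₁ ⟶ c.pt := Over.homMk I.subschemeι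
  have hi : i = 1 := by
    refine hc.hom_ext fun j => ?_
    have := hD j
    rw [Hom.one_def, Category.assoc, IsMonHom.one_hom (M := c.pt) (f := c.π.app j), ← Hom.one_def, eq_one_iff_le]
    show kerIdeal (c.π.app j) ≤ I.subschemeι.ker
    rw [Scheme.IdealSheafData.ker_subschemeι]
    exact le_iSup (fun j => kerIdeal (c.π.app j)) j
  have hle : I.subschemeι.ker ≤ (η[c.pt] : 𝟙_ (Over (Spec (CommRingCat.of k))) ⟶ c.pt).left.ker := by
    rw [Scheme.IdealSheafData.ker_subschemeι]
    refine iSup_le fun j => ?_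
    have := hD j
    refine (eq_one_iff_le (c.π.app j) (η[c.pt])).1 ?_
    rw [IsMonHom.one_hom, Hom.one_def, toUnit_unit, Category.id_comp]
  let l := IsClosedImmersion.lift I.subschemeι (η[c.pt] : 𝟙_ (Over (Spec (CommRingCat.of k))) ⟶ c.pt).left hle
  have hl : l ≫ I.subschemeι = (η[c.pt] : 𝟙_ (Over (Spec (CommRingCat.of k))) ⟶ c.pt).left :=
    IsClosedImmersion.lift_fac _ _ _
  have hi' : I.subschemeι = C₁.hom ≫ (η[c.pt] : 𝟙_ (Over (Spec (CommRingCat.of k))) ⟶ c.pt).left := by
    have h := congrArg (fun x => x.left) hi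
    simp only [Hom.one_def, Over.comp_left] at h
    exact h
  have : IsIso l := by
    refine ⟨C₁.hom, ?_, ?_⟩
    · show l ≫ I.subschemeι ≫ c.pt.hom = _
      rw [← Category.assoc, hl]
      exact Over.w η[c.pt]
    · rw [← cancel_mono I.subschemeι, Category.assoc, hl, Category.id_comp, ← hi']
  rw [← hl]
  infer_instance

variable [IsCofiltered J] [∀ (j j' : J) (φ : j ⟶ j'), IsMonHom (D.map φ)]

/-- the kernels of the components stabilise -/
theorem exists_stage {G : Over (Spec (CommRingCat.of k))} [GrpObj G] [LocallyOfFiniteType G.hom]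
    [QuasiCompact G.hom] {c : Cone D} (hc : IsLimit c) [GrpObj c.pt]
    [∀ j, IsMonHom (M := c.pt) (N := D.obj j) (c.π.app j)]
    (hD : ∀ j, LocallyOfFiniteType (D.obj j).hom) (u : G ⟶ c.pt) :
    ∃ j : J, ∀ (T : Over (Spec (CommRingCat.of k))) (z : T ⟶ G),
      z ≫ u ≫ c.π.app j = 1 → z ≫ u = 1 := by
  classical
  have : IsLocallyNoetherian G.left := LocallyOfFiniteType.isLocallyNoetherian G.hom
  have : CompactSpace G.left := QuasiCompact.compactSpace_of_compactSpace G.hom
  obtain ⟨S, hS, e⟩ := isCompact_iff_finite_and_eq_biUnion_affineOpens.mp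
    (show IsCompact ((⊤ : G.left.Opens) : Set G.left) from isCompact_univ)
  have : Nonempty J := IsCofiltered.nonempty
  let K : J → G.left.IdealSheafData := fun j => kerIdeal (u ≫ c.π.app j)
  have hmax : ∀ U : G.left.affineOpens, ∃ j, ∀ j', ¬ (K j).ideal U < (K j').ideal U := by
    intro U
    have : IsNoetherianRing Γ(G.left, U) := IsLocallyNoetherian.component_noetherian U
    obtain ⟨_, ⟨j, rfl⟩, hj⟩ := set_has_maximal_iff_noetherian.2 ‹IsNoetherianRing Γ(G.left, U)›
      (Set.range fun j => (K j).ideal U) (Set.range_nonempty _)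
    exact ⟨j, fun j' => hj _ ⟨j', rfl⟩⟩
  choose m hm using hmax
  have mono : ∀ {a b : J} (φ : a ⟶ b), K b ≤ K a := by
    intro a b φ
    have := hD a
    have := hD b
    have := isClosedImmersion_eta (D.obj a)
    let N : Over (Spec (CommRingCat.of k)) :=
      Over.mk (pullback.fst (u ≫ c.π.app a).left (η[D.obj a] : 𝟙_ (Over (Spec (CommRingCat.of k))) ⟶ _).left ≫ G.hom)
    let i : N ⟶ G := Over.homMk (pullback.fst (u ≫ c.π.app a).left
      (η[D.obj a] : 𝟙_ (Over (Spec (CommRingCat.of k))) ⟶ _).left)
    have h1 : i ≫ (u ≫ c.π.app a) = 1 := (eq_one_iff_le _ i).2 le_rfl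
    refine (eq_one_iff_le (u ≫ c.π.app b) i).1 ?_
    rw [← c.w φ, ← Category.assoc u, ← Category.assoc i, h1, MonObj.one_comp]
  obtain ⟨j₀, hj₀⟩ := IsCofiltered.inf_objs_exists (hS.toFinset.image m)
  refine ⟨j₀, fun T z hz => hc.hom_ext fun j' => ?_⟩
  let j'' := IsCofiltered.min j₀ j'
  have key : K j'' ≤ K j₀ := by
    refine le_of_eq (Scheme.IdealSheafData.ext_of_iSup_eq_top (fun U : S => (U : G.left.affineOpens)) ?_
      fun U => ?_)
    · rw [iSup_subtype]; exact e.symm
    obtain ⟨φ⟩ := hj₀ (Finset.mem_image_of_mem m (hS.mem_toFinset.2 U.2))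
    have h1 : (K (m U)).ideal U ≤ (K j₀).ideal U := mono φ U
    have h2 : (K j₀).ideal U ≤ (K j'').ideal U := mono (IsCofiltered.minToLeft j₀ j') U
    exact le_antisymm (((h1.trans h2).eq_of_not_lt (hm U j'')).ge.trans h1) h2
  have := hD j'
  have := hD j₀
  rw [MonObj.one_comp, Category.assoc]
  refine (eq_one_iff_le (u ≫ c.π.app j') z).2 ?_
  exact ((mono (IsCofiltered.minToRight j₀ j')).trans key).trans ((eq_one_iff_le (u ≫ c.π.app j₀) z).1 hz)

/-- **The image of an algebraic group in a pro-algebraic group is algebraic.** -/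
theorem flat_surjective_lft {G : Over (Spec (CommRingCat.of k))} [GrpObj G] [LocallyOfFiniteType G.hom]
    [QuasiCompact G.hom] {c : Cone D} (hc : IsLimit c) [GrpObj c.pt]
    [∀ j, IsMonHom (M := c.pt) (N := D.obj j) (c.π.app j)]
    (hD : ∀ j, LocallyOfFiniteType (D.obj j).hom ∧ QuasiCompact (D.obj j).hom) (u : G ⟶ c.pt)
    [IsMonHom u] [QuasiCompact u.left] (hdom : u.left.ker = ⊥) :
    Flat u.left ∧ Surjective u.left ∧ LocallyOfFiniteType c.pt.hom ∧ QuasiCompact c.pt.hom := by
  obtain ⟨j, hj⟩ := exists_stage hc (fun j => (hD j).1) u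
  have := (hD j).1
  have := (hD j).2
  have := isSeparated_hom (D.obj j)
  have : IsSeparated c.pt.hom := isSeparated_limit hc fun j => (hD j).1
  have : IsSeparated G.hom := isSeparated_hom G
  have : QuasiCompact ((u ≫ c.π.app j).left ≫ (D.obj j).hom) := by rw [Over.w]; infer_instance
  have : QuasiCompact (u ≫ c.π.app j).left := QuasiCompact.of_comp _ (D.obj j).hom
  obtain ⟨K, hK, i, p, hi, hp, hpi, hcl, hd, hqc, hsurj⟩ := SchImg.exists_image (u ≫ c.π.app j)
  have : IsSchemeTheoreticallyDominant u.left := (isSchemeTheoreticallyDominant_iff _).2 hdom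
  obtain ⟨v, hv⟩ := SchImg.exists_factor u i (c.π.app j) p hpi.symm
  have := SchImg.mono_of_isClosedImmersion i
  have : IsMonHom v := by
    refine ⟨?_, ?_⟩
    · rw [← cancel_mono i, Category.assoc, hv, IsMonHom.one_hom, IsMonHom.one_hom]
    · rw [← cancel_mono i, Category.assoc, hv, IsMonHom.mul_hom, Category.assoc, IsMonHom.mul_hom,
        ← Category.assoc (v ⊗ₘ v), MonoidalCategory.tensorHom_comp_tensorHom, hv]
  have huv : u ≫ v = p := by rw [← cancel_mono i, Category.assoc, hv, hpi]
  have : LocallyOfFiniteType K.hom := by rw [← Over.w i]; infer_instance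
  have : Flat (u ≫ v).left := by
    rw [huv]; exact flat_of_schDom p ((isSchemeTheoreticallyDominant_iff _).1 hd)
  have : Surjective (u ≫ v).left := by rw [huv]; exact hsurj
  have : QuasiCompact (u ≫ v).left := by rw [huv]; exact hqc
  have : IsIso v.left := AffImage.isIso_of_kernel u v hdom fun T z hz => hj T z (by
    rw [← hv, ← Category.assoc u, ← Category.assoc z, hz, MonObj.one_comp])
  refine ⟨?_, ?_, ?_, ?_⟩
  · rw [← MorphismProperty.cancel_right_of_respectsIso (P := @Flat) u.left v.left, ← Over.comp_left]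
    infer_instance
  · rw [← MorphismProperty.cancel_right_of_respectsIso (P := @Surjective) u.left v.left, ← Over.comp_left]
    infer_instance
  · rw [← Over.w v]; infer_instance
  · have : QuasiCompact K.hom := by rw [← Over.w i]; infer_instance
    rw [← Over.w v]; infer_instance

end Groth.Agent.GrpField.LimImage
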