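import Groth.Agent.GrpField.SchImg
import Groth.Agent.DomLib.Basic
import Mathlib.AlgebraicGeometry.PullbackCarrier
import Mathlib.AlgebraicGeometry.Morphisms.Flat

/-!
# A quasi-compact dominant homomorphism of group schemes over a field is surjective

No finiteness is needed: every point is the product of two points lying over maximal points.
-/

universe u

open CategoryTheory CategoryTheory.Limits MonoidalCategory CartesianMonoidalCategory MonObj GrpObj AlgebraicGeometry

namespace Groth.Agent.GrpField.SchImg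

variable {k : Type u} [Field k] {H K : Over (Spec (CommRingCat.of k))} [GrpObj H] [GrpObj K]

theorem surjective_of_isDominant (g : H ⟶ K) [IsMonHom g] [QuasiCompact g.left] [IsDominant g.left] :
    Surjective g.left := by
  refine ⟨fun x => ?_⟩
  let T : Over (Spec (CommRingCat.of k)) := Over.mk (K.left.fromSpecResidueField x ≫ K.hom)
  let t : T ⟶ K := Over.homMk (K.left.fromSpecResidueField x)
  have ht : ∀ z : T.left, t.left z = x := fun z => by
    have h := Scheme.range_fromSpecResidueField (X := K.left) x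
    exact (h ▸ ⟨z, rfl⟩ : t.left z ∈ ({x} : Set K.left))
  let τ : K ⊗ T ≅ K ⊗ T :=
    { hom := lift ((snd K T ≫ t) * (fst K T)⁻¹) (snd K T)
      inv := lift ((fst K T)⁻¹ * (snd K T ≫ t)) (snd K T)
      hom_inv_id := by
        apply CartesianMonoidalCategory.hom_ext
        · rw [Category.assoc, lift_fst, MonObj.comp_mul, GrpObj.comp_inv, lift_fst,
            lift_snd_assoc, _root_.mul_inv_rev, _root_.inv_inv, _root_.mul_assoc, inv_mul_cancel,
            _root_.mul_one, Category.id_comp]
        · rw [Category.assoc, lift_snd, lift_snd, Category.id_comp]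
      inv_hom_id := by
        apply CartesianMonoidalCategory.hom_ext
        · rw [Category.assoc, lift_fst, MonObj.comp_mul, GrpObj.comp_inv, lift_fst,
            lift_snd_assoc, _root_.mul_inv_rev, _root_.inv_inv, ← _root_.mul_assoc, mul_inv_cancel,
            _root_.one_mul, Category.id_comp]
        · rw [Category.assoc, lift_snd, lift_snd, Category.id_comp] }
  let π := (fst K T).left
  have hflat : Flat π := flat_fst K T
  let τl := (Over.forget _).mapIso τ
  have : IsIso τ.hom.left := τl.isIso_hom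
  -- a point of `K ⊗ T` and a maximal point above it
  obtain ⟨w, -, -⟩ := Scheme.Pullback.exists_preimage_pullback (f := K.hom) (g := T.hom) x
    (Classical.arbitrary (Spec (K.left.residueField x))) (Subsingleton.elim _ _)
  obtain ⟨p, hp, -⟩ := DomLib.exists_max (X := (K ⊗ T).left) w
  have hgen : ∀ q : (K ⊗ T).left, (∀ z, z ⤳ q → z = q) → π q ∈ Set.range g.left := by
    intro q hq
    obtain ⟨h, hh⟩ := DomLib.exists_specializes g.left (g.left.denseRange (π q))
    obtain ⟨z, hz, hzq⟩ := Flat.generalizingMap π hh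
    exact ⟨h, by rw [← hzq, hq z hz]⟩
  have hp' : ∀ z, z ⤳ p → z = p := fun z hz => DomLib.eq_of_specializes_max hp hz
  have hτp : ∀ z, z ⤳ τ.hom.left p → z = τ.hom.left p := fun z hz => by
    obtain ⟨z', rfl⟩ := τ.hom.left.homeomorph.surjective z
    exact congrArg _ (hp' z' (τ.hom.left.homeomorph.isInducing.specializes_iff.1 hz))
  obtain ⟨a, ha⟩ := hgen p hp'
  obtain ⟨b, hb⟩ := hgen _ hτp
  obtain ⟨w₁, -, hw₁⟩ := Scheme.Pullback.exists_preimage_pullback (f := g.left) (g := π) a p ha
  obtain ⟨w₂, -, hw₂⟩ := Scheme.Pullback.exists_preimage_pullback (f := g.left)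
    (g := τ.hom.left ≫ π) b p hb
  obtain ⟨v, hv₁, -⟩ := Scheme.Pullback.exists_preimage_pullback
    (f := pullback.snd g.left π) (g := pullback.snd g.left (τ.hom.left ≫ π)) w₁ w₂
    (hw₁.trans hw₂.symm)
  let q := pullback.fst (pullback.snd g.left π) (pullback.snd g.left (τ.hom.left ≫ π)) ≫
    pullback.snd g.left π
  let W : Over (Spec (CommRingCat.of k)) := Over.mk (q ≫ (K ⊗ T).hom)
  let Q : W ⟶ K ⊗ T := Over.homMk q
  let u₁ := pullback.fst (pullback.snd g.left π) (pullback.snd g.left (τ.hom.left ≫ π)) ≫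
    pullback.fst g.left π
  let u₂ := pullback.snd (pullback.snd g.left π) (pullback.snd g.left (τ.hom.left ≫ π)) ≫
    pullback.fst g.left (τ.hom.left ≫ π)
  have e₁ : u₁ ≫ g.left = q ≫ π := by
    simp only [u₁, q]
    rw [Category.assoc, pullback.condition, ← Category.assoc]
  have e₂ : u₂ ≫ g.left = q ≫ τ.hom.left ≫ π := by
    simp only [u₂, q, Category.assoc, pullback.condition, pullback.condition_assoc]
  let h₁ : W ⟶ H := Over.homMk u₁ (by
    change u₁ ≫ H.hom = q ≫ (K ⊗ T).hom
    rw [← Over.w g, reassoc_of% e₁, Over.w (fst K T)])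
  let h₂ : W ⟶ H := Over.homMk u₂ (by
    change u₂ ≫ H.hom = q ≫ (K ⊗ T).hom
    rw [← Over.w g, reassoc_of% e₂]
    exact congrArg (q ≫ ·) ((Category.assoc _ _ _).symm.trans (Over.w (τ.hom ≫ fst K T))))
  have E₁ : h₁ ≫ g = Q ≫ fst K T := by ext1; exact e₁
  have E₂ : h₂ ≫ g = Q ≫ τ.hom ≫ fst K T := by ext1; exact e₂
  have key : (h₂ * h₁) ≫ g = Q ≫ snd K T ≫ t := by
    rw [MonObj.mul_comp, E₁, E₂]
    simp only [τ, lift_fst, MonObj.comp_mul, GrpObj.comp_inv, _root_.mul_assoc, inv_mul_cancel,
      _root_.mul_one]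
  refine ⟨(h₂ * h₁).left v, ?_⟩
  rw [← Scheme.Hom.comp_apply, ← Over.comp_left, key, Over.comp_left, Over.comp_left,
    Scheme.Hom.comp_apply, Scheme.Hom.comp_apply]
  exact ht _

end Groth.Agent.GrpField.SchImg
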