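import Groth.Agent.GrpField.SchDomFlat
import Mathlib.AlgebraicGeometry.Morphisms.FlatDescent
import Mathlib.AlgebraicGeometry.Morphisms.Separated
import Mathlib.RingTheory.Finiteness.Defs

/-!
# A schematically dominant homomorphism of an algebraic group to an affine group has algebraic target

The target is only assumed affine. Given sufficiently many functions there is an algebraic quotient
with the same kernel, and fpqc descent shows that the target is that quotient.
-/

universe u

open CategoryTheory CategoryTheory.Limits MonoidalCategory CartesianMonoidalCategory MonObj GrpObj AlgebraicGeometry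

set_option backward.isDefEq.respectTransparency false

namespace Groth.Agent.GrpField.AffImage

/-- morphisms into a separated scheme agreeing after a schematically dominant morphism agree -/
theorem ext_of_schDom {P Q W : Scheme.{u}} (q : Q ⟶ P) (hq : q.ker = ⊥) (a b : P ⟶ W)
    [W.IsSeparated] (h : q ≫ a = q ≫ b) : a = b := by
  let δ := pullback.diagonal (terminal.from W)
  let c : P ⟶ pullback (terminal.from W) (terminal.from W) :=
    pullback.lift a b (terminal.hom_ext _ _)
  let i := pullback.snd δ c
  have : IsClosedImmersion i := MorphismProperty.pullback_snd δ c inferInstance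
  have hl : (q ≫ a) ≫ δ = q ≫ c := by
    apply pullback.hom_ext
    · simp [δ, c]
    · simp [δ, c, h]
  have hfac : pullback.lift (q ≫ a) q hl ≫ i = q := pullback.lift_snd _ _ _
  have hi : i.ker ≤ (𝟙 P : P ⟶ P).ker := by
    have h1 : i.ker ≤ q.ker := hfac ▸ Scheme.Hom.le_ker_comp _ i
    rw [hq] at h1
    exact h1.trans bot_le
  have hsec : IsClosedImmersion.lift i (𝟙 P) hi ≫ i = 𝟙 P := IsClosedImmersion.lift_fac _ _ _
  let r := IsClosedImmersion.lift i (𝟙 P) hi ≫ pullback.fst δ c
  have hr : r ≫ δ = c := by
    simp only [r, Category.assoc, pullback.condition]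
    rw [← Category.assoc]
    erw [hsec]
    exact Category.id_comp c
  have ha := congrArg (· ≫ pullback.fst _ _) hr
  have hb := congrArg (· ≫ pullback.snd _ _) hr
  simp only [δ, c, Category.assoc, pullback.diagonal_fst, pullback.diagonal_snd, Category.comp_id,
    pullback.lift_fst, pullback.lift_snd] at ha hb
  exact ha.symm.trans hb

variable {k : Type u} [Field k]

theorem appTop_comp_apply' {X Y Z : Scheme.{u}} (f : X ⟶ Y) (g : Y ⟶ Z) (a : Γ(Z, ⊤)) :
    (f ≫ g).appTop a = f.appTop (g.appTop a) := by
  rw [Scheme.Hom.comp_appTop]; rfl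

/-- finitely many functions control the kernel of a homomorphism to an affine group -/
theorem exists_finset_kernel {G C : Over (Spec (CommRingCat.of k))} [GrpObj G] [GrpObj C]
    [LocallyOfFiniteType G.hom] [QuasiCompact G.hom] [IsAffine C.left] (u : G ⟶ C) [IsMonHom u] :
    ∃ s : Finset Γ(C.left, ⊤), ∀ (D : Over (Spec (CommRingCat.of k))) [GrpObj D] (v : C ⟶ D)
      [IsMonHom v], (∀ a ∈ s, ∃ b, v.left.appTop b = a) →
      ∀ (T : Over (Spec (CommRingCat.of k))) (z : T ⟶ G), z ≫ u ≫ v = 1 → z ≫ u = 1 := by
  classical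
  have : IsLocallyNoetherian G.left := LocallyOfFiniteType.isLocallyNoetherian G.hom
  have : CompactSpace G.left := QuasiCompact.compactSpace_of_compactSpace G.hom
  obtain ⟨I, hI, e⟩ := isCompact_iff_finite_and_eq_biUnion_affineOpens.mp
    (show IsCompact ((⊤ : G.left.Opens) : Set G.left) from isCompact_univ)
  let ηC : Spec (CommRingCat.of k) ⟶ C.left := η[C].left
  let d : Γ(C.left, ⊤) → Γ(G.left, ⊤) := fun a =>
    u.left.appTop a - G.hom.appTop (ηC.appTop a)
  let res : ∀ U : G.left.affineOpens, Γ(G.left, ⊤) → Γ(G.left, U) := fun U =>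
    G.left.presheaf.map (homOfLE (le_top : (U : G.left.Opens) ≤ ⊤)).op
  have hfin : ∀ U : G.left.affineOpens, ∃ s : Finset Γ(C.left, ⊤), ∀ a,
      res U (d a) ∈ Ideal.span ((res U ∘ d) '' (s : Set Γ(C.left, ⊤))) := by
    intro U
    have : IsNoetherianRing Γ(G.left, U) := IsLocallyNoetherian.component_noetherian U
    obtain ⟨t, ht, hspan⟩ := (Submodule.fg_span_iff_fg_span_finset_subset
      (R := Γ(G.left, U)) (Set.range (res U ∘ d))).1 (IsNoetherian.noetherian _)
    obtain ⟨s, -, hs⟩ := Finset.subset_set_image_iff.1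
      (show (t : Set Γ(G.left, U)) ⊆ (res U ∘ d) '' Set.univ by rwa [Set.image_univ])
    refine ⟨s, fun a => ?_⟩
    rw [← Finset.coe_image, hs]
    exact hspan.le (Submodule.subset_span ⟨a, rfl⟩)
  choose s hs using hfin
  refine ⟨hI.toFinset.biUnion s, fun D _ v _ hsur T z hz => ?_⟩
  have hunit : ∀ {X : Over (Spec (CommRingCat.of k))} [GrpObj X] (W : Over (Spec (CommRingCat.of k))),
      (1 : W ⟶ X).left = W.hom ≫ (η[X].left : Spec (CommRingCat.of k) ⟶ X.left) := by
    intro X _ W
    rw [Hom.one_def, Over.comp_left]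
    rfl
  have hzd : ∀ a ∈ hI.toFinset.biUnion s, z.left.appTop (d a) = 0 := by
    intro a ha
    obtain ⟨b, rfl⟩ := hsur a ha
    have h1 : z.left.appTop (u.left.appTop (v.left.appTop b)) =
        T.hom.appTop (ηC.appTop (v.left.appTop b)) := by
      rw [← appTop_comp_apply' u.left, ← appTop_comp_apply' z.left, ← Over.comp_left, ← Over.comp_left,
        hz, hunit, appTop_comp_apply', ← appTop_comp_apply' ηC]
      have h2 : ηC ≫ v.left = η[D].left := congrArg (fun w => w.left) (IsMonHom.one_hom (f := v))
      rw [h2]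
    simp only [d, map_sub]
    rw [h1, ← appTop_comp_apply' z.left G.hom, Over.w z]
    exact sub_self _
  have hall : ∀ a, z.left.appTop (d a) = 0 := by
    intro a
    refine TopCat.Sheaf.eq_of_locally_eq' T.left.sheaf
      (fun U : I => z.left ⁻¹ᵁ ((U : G.left.affineOpens) : G.left.Opens)) _
      (fun U => homOfLE le_top) ?_ _ _ fun U => ?_
    · intro y _
      have h1 : z.left y ∈ (⊤ : G.left.Opens) := trivial
      rw [e] at h1
      simp only [TopologicalSpace.Opens.mem_iSup] at h1
      obtain ⟨i, hi, hyi⟩ := h1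
      exact TopologicalSpace.Opens.mem_iSup.2 ⟨⟨i, hi⟩, hyi⟩
    rw [map_zero]
    have nat : ∀ g, T.left.presheaf.map (homOfLE (le_top : z.left ⁻¹ᵁ (U : G.left.affineOpens).1 ≤ ⊤)).op
        (z.left.appTop g) = z.left.app (U : G.left.affineOpens).1 (res U g) := by
      intro g
      exact (congr($(z.left.naturality (homOfLE (le_top : (U : G.left.affineOpens).1 ≤ ⊤)).op).hom g)).symm
    show T.left.presheaf.map (homOfLE (le_top : z.left ⁻¹ᵁ (U : G.left.affineOpens).1 ≤ ⊤)).op
        (z.left.appTop (d a)) = 0
    rw [nat]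
    have hle : Ideal.span ((res U ∘ d) '' (s U : Set Γ(C.left, ⊤))) ≤
        RingHom.ker (z.left.app (U : G.left.affineOpens).1).hom := by
      rw [Ideal.span_le]
      rintro _ ⟨a, ha, rfl⟩
      show z.left.app _ (res U (d a)) = 0
      rw [← nat, hzd a (Finset.mem_biUnion.2 ⟨U, hI.mem_toFinset.2 U.2, ha⟩), map_zero]
    exact hle (hs U a)
  ext1
  refine ext_of_isAffine (ConcreteCategory.hom_ext _ _ fun a => ?_)
  have h3 := hall a
  simp only [d, map_sub, sub_eq_zero] at h3
  rw [Over.comp_left, hunit, appTop_comp_apply', appTop_comp_apply', h3, ← appTop_comp_apply' z.left G.hom,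
    Over.w z]

/-- descent: a homomorphism with the same kernel pair as a flat surjective one has the same target -/
theorem isIso_of_kernel {G C D : Over (Spec (CommRingCat.of k))} [GrpObj G] [GrpObj C] [GrpObj D]
    (u : G ⟶ C) [IsMonHom u] (v : C ⟶ D) [IsMonHom v] [IsSeparated C.hom]
    [QuasiCompact u.left] (hker : u.left.ker = ⊥) [Flat (u ≫ v).left] [Surjective (u ≫ v).left]
    [QuasiCompact (u ≫ v).left] [IsSeparated G.hom]
    (hk : ∀ (T : Over (Spec (CommRingCat.of k))) (z : T ⟶ G), z ≫ u ≫ v = 1 → z ≫ u = 1) :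
    IsIso v.left := by
  let g := (u ≫ v).left
  let P := pullback g v.left
  let p₁ : P ⟶ G.left := pullback.fst g v.left
  let p₂ : P ⟶ C.left := pullback.snd g v.left
  let σ : G.left ⟶ P := pullback.lift (𝟙 _) u.left (by rw [Category.id_comp]; rfl)
  have hσ : σ ≫ p₁ = 𝟙 _ := pullback.lift_fst _ _ _
  have hflat : Flat p₂ := MorphismProperty.pullback_snd (P := @Flat) g v.left ‹_›
  let q := pullback.snd u.left p₂
  let r := pullback.fst u.left p₂
  have : IsSchemeTheoreticallyDominant u.left := (isSchemeTheoreticallyDominant_iff _).2 hker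
  have hq : q.ker = ⊥ := (isSchemeTheoreticallyDominant_iff _).1
    (IsSchemeTheoreticallyDominant.of_isPullback (IsPullback.of_hasPullback u.left p₂))
  have hP : P.IsSeparated := by
    have : IsSeparated v.left := by
      have : IsSeparated (v.left ≫ D.hom) := by rw [Over.w v]; infer_instance
      exact .of_comp v.left D.hom
    have : IsSeparated (p₁ ≫ G.hom) := inferInstance
    refine ⟨?_⟩
    rw [← terminal.comp_from (p₁ ≫ G.hom)]
    infer_instance
  have hid : p₁ ≫ σ = 𝟙 P := by
    refine ext_of_schDom q hq _ _ ?_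
    apply pullback.hom_ext
    · rw [Category.assoc, Category.assoc]
      erw [hσ]
      simp [p₁, P]
    · rw [Category.assoc, Category.assoc]
      erw [pullback.lift_snd]
      rw [Category.comp_id]
      show q ≫ p₁ ≫ u.left = q ≫ p₂
      rw [show q ≫ p₂ = r ≫ u.left from pullback.condition.symm]
      let T : Over (Spec (CommRingCat.of k)) := Over.mk ((q ≫ p₁) ≫ G.hom)
      have heq : (q ≫ p₁) ≫ g = r ≫ g := by
        simp only [p₁, Category.assoc, pullback.condition]
        rw [← Category.assoc, show q ≫ pullback.snd g v.left = r ≫ u.left from pullback.condition.symm,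
          Category.assoc]
        rfl
      have hr : r ≫ G.hom = (q ≫ p₁) ≫ G.hom := by
        rw [← Over.w (u ≫ v), ← Category.assoc, ← Category.assoc]
        exact congrArg (· ≫ D.hom) heq.symm
      let x : T ⟶ G := Over.homMk (q ≫ p₁) rfl
      let y : T ⟶ G := Over.homMk r hr
      have hxy : x ≫ u ≫ v = y ≫ u ≫ v := by ext1; exact heq
      have h1 : (x⁻¹ * y) ≫ u ≫ v = 1 := by
        rw [MonObj.mul_comp, GrpObj.inv_comp, hxy, inv_mul_cancel]
      have h2 := hk T (x⁻¹ * y) h1
      rw [MonObj.mul_comp, GrpObj.inv_comp, inv_mul_eq_one] at h2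
      have h4 := congrArg (fun w => w.left) h2
      simpa [x, y] using h4
  have : IsIso p₁ := ⟨σ, hid, hσ⟩
  exact MorphismProperty.of_pullback_fst_of_descendsAlong
    (P := MorphismProperty.isomorphisms Scheme.{u}) (Q := @Surjective ⊓ @Flat ⊓ @QuasiCompact)
    (f := g) (g := v.left) ⟨⟨inferInstance, inferInstance⟩, inferInstance⟩
    (inferInstanceAs (IsIso p₁))

end Groth.Agent.GrpField.AffImage
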