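import Groth.Agent.GrpField.Range
import Groth.Agent.Assoc.Kernel
import Groth.Agent.GoingDown.Dedekind

/-!
# Open homomorphisms are universally open
-/

universe u

open CategoryTheory CategoryTheory.Limits MonoidalCategory CartesianMonoidalCategory MonObj GrpObj AlgebraicGeometry

set_option backward.isDefEq.respectTransparency false

namespace Groth.Agent.GrpField

variable {S : Scheme.{u}} {G H : Over S} (f : G ⟶ H)

/-- some nonempty open of the source is universally open over the target -/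
theorem exists_universallyOpen_restrict [LocallyOfFiniteType f.left] [IsLocallyNoetherian H.left]
    [Nonempty G.left] (hf : IsOpenMap f.left) :
    ∃ A : G.left.Opens, (A : Set G.left).Nonempty ∧ UniversallyOpen (A.ι ≫ f.left) := by
  let g₀ : G.left := Classical.arbitrary _
  let C : TopologicalSpace.Closeds H.left := ⊤
  let I := Scheme.IdealSheafData.vanishingIdeal C
  let j := I.subschemeι
  have : IsReduced I.subscheme := isReduced_vanishingIdeal C
  have : Surjective j := ⟨Set.range_eq_univ.1 (by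
    rw [Scheme.IdealSheafData.range_subschemeι, Scheme.IdealSheafData.coe_support_vanishingIdeal]
    rfl)⟩
  have : UniversallyOpen j := universallyOpen_of_isClosedImmersion j
  obtain ⟨B, hB, hgB, -⟩ := exists_isAffineOpen_mem_and_subset
    (show f.left g₀ ∈ (⊤ : H.left.Opens) from trivial)
  obtain ⟨Q, hQ, hgQ, hQB⟩ := exists_isAffineOpen_mem_and_subset (show g₀ ∈ f.left ⁻¹ᵁ B from hgB)
  let r := f.left.resLE B Q hQB
  have : IsAffine (Q : Scheme.{u}) := hQ
  have : IsAffine (B : Scheme.{u}) := hB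
  let j' := j ∣_ B
  have : Surjective j' := MorphismProperty.of_isPullback (isPullback_morphismRestrict j B).flip ‹Surjective j›
  have : UniversallyOpen j' := MorphismProperty.of_isPullback (isPullback_morphismRestrict j B).flip ‹UniversallyOpen j›
  let g := pullback.snd r j'
  have : IsAffineHom r := isAffineHom_of_isAffine r
  obtain ⟨U, hU, hfl, hfp⟩ := GenFree.exists_dense_flat_fp g
  let W₀ : Set (↥(B : Scheme.{u})) := j' '' (U : Set ↥(j ⁻¹ᵁ B : Scheme.{u}))
  have hW₀ : IsOpen W₀ := j'.isOpenMap _ U.2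
  let W : (B : Scheme.{u}).Opens := ⟨W₀, hW₀⟩
  have hpre : j' ⁻¹ᵁ W = U := by
    ext p
    refine ⟨fun ⟨p', hp', he⟩ => ?_, fun hp => ⟨p, hp, rfl⟩⟩
    rwa [← j'.isClosedEmbedding.injective he]
  let A₀ : (Q : Scheme.{u}).Opens := r ⁻¹ᵁ W
  let A : G.left.Opens := Q.ι ''ᵁ A₀
  have hUne : (A₀ : Set ↥(Q : Scheme.{u})).Nonempty := by
    have him : IsOpen (r '' Set.univ) := by
      have h : B.ι '' (r '' Set.univ) = f.left '' (Q : Set G.left) := by
        rw [← Set.image_comp]
        ext y
        constructor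
        · rintro ⟨q, -, rfl⟩
          refine ⟨Q.ι q, q.2, ?_⟩
          show f.left (Q.ι q) = B.ι (r q)
          rw [← Scheme.Hom.comp_apply, ← Scheme.Hom.comp_apply, Scheme.Hom.resLE_comp_ι]
        · rintro ⟨q, hq, rfl⟩
          refine ⟨⟨q, hq⟩, trivial, ?_⟩
          show B.ι (r ⟨q, hq⟩) = _
          rw [← Scheme.Hom.comp_apply, Scheme.Hom.resLE_comp_ι]
          rfl
      rw [← Set.preimage_image_eq (r '' Set.univ) B.ι.isOpenEmbedding.injective, h]
      exact (hf _ Q.2).preimage B.ι.continuous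
    have hne : (j' ⁻¹' (r '' Set.univ)).Nonempty := by
      obtain ⟨p, hp⟩ := j'.surjective (r ⟨g₀, hgQ⟩)
      exact ⟨p, ⟨g₀, hgQ⟩, trivial, hp.symm⟩
    obtain ⟨p, hp, hpU⟩ := hU.inter_open_nonempty _ (him.preimage j'.continuous) hne
    obtain ⟨q, -, hq⟩ := hp
    exact ⟨q, show r q ∈ W₀ from ⟨p, hpU, hq.symm⟩⟩
  refine ⟨A, ?_, ?_⟩
  · exact hUne.image Q.ι
  -- universal openness on the restricted piece
  let jW := j' ∣_ W
  have : Surjective jW := MorphismProperty.of_isPullback (isPullback_morphismRestrict j' W).flip ‹Surjective j'›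
  have : UniversallyOpen jW := MorphismProperty.of_isPullback (isPullback_morphismRestrict j' W).flip ‹UniversallyOpen j'›
  have hrW : UniversallyOpen (r ∣_ W) := by
    refine MorphismProperty.of_pullback_snd_of_descendsAlong (P := @UniversallyOpen) (Q := OpenCov)
      (g := jW) ⟨‹_›, ‹_›⟩ ?_
    have hg : UniversallyOpen (g ∣_ (j' ⁻¹ᵁ W)) := by
      rw [hpre]
      exact UniversallyOpen.of_flat _
    have big := (isPullback_morphismRestrict g (j' ⁻¹ᵁ W)).flip.paste_horiz (IsPullback.of_hasPullback r j')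
    have sq : IsPullback (pullback.fst (r ∣_ W) jW ≫ (r ⁻¹ᵁ W).ι) (pullback.snd (r ∣_ W) jW) r
        ((j' ⁻¹ᵁ W).ι ≫ j') := by
      rw [← morphismRestrict_ι]
      exact (IsPullback.of_hasPullback (r ∣_ W) jW).paste_horiz (isPullback_morphismRestrict r W).flip
    rw [← IsPullback.isoIsPullback_hom_snd _ _ sq big]
    exact (MorphismProperty.cancel_left_of_respectsIso @UniversallyOpen _ _).2 hg
  have : UniversallyOpen ((r ∣_ W) ≫ W.ι ≫ B.ι) := inferInstance
  have e : (Q.ι.isoImage A₀).hom ≫ A.ι ≫ f.left = (r ∣_ W) ≫ W.ι ≫ B.ι := by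
    rw [Scheme.Hom.isoImage_hom_ι_assoc, morphismRestrict_ι_assoc, Scheme.Hom.resLE_comp_ι]
  rw [← MorphismProperty.cancel_left_of_respectsIso @UniversallyOpen (Q.ι.isoImage A₀).hom, e]
  infer_instance

variable [GrpObj G] [GrpObj H] [IsMonHom f] [PointBase S] [Subsingleton S]

/-- universal openness spreads by translation -/
theorem universallyOpen_of_restrict (A : G.left.Opens) (hA : (A : Set G.left).Nonempty)
    [UniversallyOpen (A.ι ≫ f.left)] : UniversallyOpen f.left := by
  suffices h : ∀ x : G.left, ∃ V : G.left.Opens, x ∈ V ∧ UniversallyOpen (V.ι ≫ f.left) by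
    choose V hx hV using h
    exact IsZariskiLocalAtSource.of_iSup_eq_top V
      (top_unique fun x _ => TopologicalSpace.Opens.mem_iSup.2 ⟨x, hx x⟩) hV
  intro x
  obtain ⟨a, ha⟩ := hA
  obtain ⟨T, _, a₀, b₀, ha₀, hb₀⟩ := exists_pt₂ x a
  obtain ⟨t⟩ := IsPt.nonempty T
  let AO : Over S := Over.mk (A.ι ≫ G.hom)
  let j : AO ⟶ G := Over.homMk A.ι
  let c : T ⟶ G := b₀⁻¹ * a₀
  let φ : AO ⊗ T ⟶ G := (j ▷ T) ≫ (trR c).hom ≫ fst G T
  have hfst : UniversallyOpen (fst G T).left := MorphismProperty.pullback_fst G.hom T.hom (IsPt.uopen T)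
  have hfst' : UniversallyOpen (fst H T).left := MorphismProperty.pullback_fst H.hom T.hom (IsPt.uopen T)
  have hiso : ∀ {K : Over S} [GrpObj K] (d : T ⟶ K), IsIso (trR d).hom.left := fun d =>
    inferInstanceAs (IsIso ((Over.forget S).map (trR d).hom))
  have : UniversallyOpen φ.left := by
    have h1 : UniversallyOpen (j ▷ T).left :=
      MorphismProperty.of_isPullback (Assoc.isPullback_whiskerRight (Z := T) j)
        (show UniversallyOpen j.left from inferInstanceAs (UniversallyOpen A.ι))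
    have := hiso c
    simp only [φ, Over.comp_left]
    infer_instance
  have hx : x ∈ Set.range φ.left := by
    have hr : Set.range b₀.left ⊆ Set.range A.ι := by
      rintro _ ⟨t', rfl⟩
      rw [Scheme.Opens.range_ι, hb₀]
      exact ha
    let b' : T ⟶ AO := Over.homMk (IsOpenImmersion.lift A.ι b₀.left hr) (by
      show _ ≫ A.ι ≫ G.hom = _
      rw [IsOpenImmersion.lift_fac_assoc, Over.w])
    have hb' : b' ≫ j = b₀ := by
      ext1
      exact IsOpenImmersion.lift_fac _ _ _
    have hφ : lift b' (𝟙 T) ≫ φ = a₀ := by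
      simp only [φ, trR]
      rw [lift_whiskerRight_assoc, hb', lift_fst, MonObj.comp_mul, lift_fst, lift_snd_assoc,
        Category.id_comp]
      exact mul_inv_cancel_left b₀ a₀
    exact ⟨(lift b' (𝟙 T)).left t, (congrArg (fun k : T ⟶ G => k.left t) hφ).trans (ha₀ t)⟩
  let V : G.left.Opens := ⟨Set.range φ.left, φ.left.isOpenMap.isOpen_range⟩
  refine ⟨V, hx, ?_⟩
  let φ' := IsOpenImmersion.lift V.ι φ.left (by rw [Scheme.Opens.range_ι]; rfl)
  have hφ' : φ' ≫ V.ι = φ.left := IsOpenImmersion.lift_fac _ _ _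
  have : Surjective φ' := ⟨fun v => by
    obtain ⟨p, hp⟩ := v.2
    exact ⟨p, V.ι.isOpenEmbedding.injective (by rw [← Scheme.Hom.comp_apply, hφ']; exact hp)⟩⟩
  have : UniversallyOpen (φ' ≫ V.ι ≫ f.left) := by
    rw [reassoc_of% hφ']
    have e : φ ≫ f = ((j ≫ f) ▷ T) ≫ (trR (c ≫ f)).hom ≫ fst H T := by
      simp [φ, trR, MonObj.mul_comp, MonObj.comp_mul]
    rw [← Over.comp_left, e, Over.comp_left, Over.comp_left]
    have h1 : UniversallyOpen ((j ≫ f) ▷ T).left :=
      MorphismProperty.of_isPullback (Assoc.isPullback_whiskerRight (Z := T) (j ≫ f))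
        (show UniversallyOpen (j ≫ f).left from inferInstanceAs (UniversallyOpen (A.ι ≫ f.left)))
    have := hiso (c ≫ f)
    infer_instance
  exact GoingDown.universallyOpen_of_comp_surjective φ' (V.ι ≫ f.left)

end Groth.Agent.GrpField
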